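import Cfsg.Agent.ChevInvol.Bruhat
import Mathlib.GroupTheory.PGroup
import Mathlib.Algebra.CharP.Two

/-!
# The subgroup generated by two long root subgroups in characteristic two
-/

set_option autoImplicit false

namespace CfsgLib.ChevInvol

open Cfsg.Lie CfsgLib.Chevalley

variable {D : ChevalleyDatum} {F : Type*} [Field F]

/-- The table check for the pairs `(a, s)`, `s` in the class `P`. -/
def pairsOk (D : ChevalleyDatum) (a : ℕ) (P : ℕ → Bool) : Bool :=
  (List.range D.nroots).all (fun r => !decide (half D ≤ r) || (D.commTerms a r).isEmpty) &&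
  (List.range D.nroots).all fun s => !P s || decide (s = a) || decide (s = D.neg a) ||
    match D.commTerms a s with
    | [] => true
    | [c] => decide (c.1 < D.nroots) && decide (c.1 ≠ a) && decide (c.1 ≠ D.neg a) &&
        decide (c.1 ≠ s) && decide (c.1 ≠ D.neg s) &&
        ((D.commTerms a c.1).all fun e => decide ((2 : ℤ) ∣ e.2.1)) &&
        ((D.commTerms s c.1).all fun e => decide ((2 : ℤ) ∣ e.2.1))
    | _ => false

theorem isPGroup_rootSubgroup [CharP F 2] (hD : Good D) (r : Root D) :
    IsPGroup 2 ↥(D.rootSubgroup F r) := by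
  rintro ⟨g, hg⟩
  obtain ⟨t, rfl⟩ := (mem_rootSubgroup_iff hD).1 hg
  refine ⟨1, Subtype.ext ?_⟩
  simp [pow_two, X_mul, CharTwo.add_self_eq_zero, X_zero]

theorem commute_subgroups (hD : Good D) {r s : Root D}
    (h : ∀ t u : F, Commute (X hD r t) (X hD s u)) :
    D.rootSubgroup F s ≤ Subgroup.normalizer (D.rootSubgroup F r : Set (GL D.Idx F)) := by
  intro g hg
  obtain ⟨u, rfl⟩ := (mem_rootSubgroup_iff hD).1 hg
  refine Subgroup.mem_normalizer_iff.2 fun x => ⟨fun hx => ?_, fun hx => ?_⟩
  · obtain ⟨t, rfl⟩ := (mem_rootSubgroup_iff hD).1 hx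
    rw [← (h t u).eq, mul_inv_cancel_right]
    exact X_mem_rootSubgroup hD r t
  · obtain ⟨t, ht⟩ := (mem_rootSubgroup_iff hD).1 hx
    have : x = X hD r t := by
      calc x = (X hD s u)⁻¹ * (X hD s u * x * (X hD s u)⁻¹) * X hD s u := by group
        _ = X hD r t := by rw [← ht, mul_assoc, (h t u).eq, inv_mul_cancel_left]
    rw [this]; exact X_mem_rootSubgroup hD r t

theorem commRhs_eq_wordGL (hD : Good D) (r s : ℕ) (t u : F) (L : List (ℕ × ℤ × ℕ × ℕ))
    (hL : D.commTerms r s = L) :
    commRhs hD r s t u =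
      wordGL hD (L.map fun c => (c.1, (c.2.1 : F) * (-t) ^ c.2.2.1 * u ^ c.2.2.2)) := by
  rw [commRhs, hL]

/-- Two root subgroups of a checked pair generate a 2-group. -/
theorem isPGroup_pair [CharP F 2] (hC : GoodComm D) {a s : Root D} {P : ℕ → Bool}
    (hok : pairsOk D a P = true) (hs : P s = true) (hne : s ≠ a) (hne' : s ≠ a.rev) :
    IsPGroup 2 ↥(D.rootSubgroup F a ⊔ D.rootSubgroup F s) := by
  have hD := hC.good
  have hA := isPGroup_rootSubgroup (F := F) hD a
  have hB := isPGroup_rootSubgroup (F := F) hD s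
  simp only [pairsOk, Bool.and_eq_true, Bool.or_eq_true, Bool.not_eq_true', List.all_eq_true,
    List.mem_range, decide_eq_true_eq] at hok
  have h := hok.2 s s.isLt
  rw [hs, hD.neg_fin] at h
  simp only [Bool.true_eq_false, false_or, Fin.val_inj, hne, hne'] at h
  have hcomm := fun t u => X_comm hC a s hne hne' (R := F) t u
  split at h
  · next hnil =>
    refine hA.to_sup_of_normal_left' hB (commute_subgroups hD fun t u => ?_)
    have := hcomm t u
    rw [commRhs_eq_wordGL hD _ _ t u _ hnil] at this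
    simp [wordGL] at this
    exact this.symm
  · next c hc =>
    simp only [Bool.and_eq_true, decide_eq_true_eq, List.all_eq_true, and_assoc] at h
    obtain ⟨hb, hba, hban, hbs, hbsn, hca, hcs⟩ := h
    obtain ⟨b, hbv⟩ : ∃ b : Root D, (b : ℕ) = c.1 := ⟨⟨c.1, hb⟩, rfl⟩
    rw [← hbv] at hba hban hbs hbsn hca hcs
    rw [hD.neg_fin] at hbsn
    have h0 : ∀ z : ℤ, 2 ∣ z → (z : F) = 0 := fun z hz =>
      (CharP.intCast_eq_zero_iff F 2 z).2 (by exact_mod_cast hz)
    have cab : ∀ t u : F, Commute (X hD a t) (X hD b u) :=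
      commute_of_terms hC (fun e => hba (congrArg Fin.val e)) (fun e => hban (congrArg Fin.val e))
        fun e he => h0 _ (hca e he)
    have csb : ∀ t u : F, Commute (X hD s t) (X hD b u) :=
      commute_of_terms hC (fun e => hbs (congrArg Fin.val e)) (fun e => hbsn (congrArg Fin.val e))
        fun e he => h0 _ (hcs e he)
    have hW : ∀ t u : F, ∃ v : F, X hD s u * X hD a t * (X hD s u)⁻¹ = X hD a t * X hD b v := by
      intro t u
      refine ⟨(c.2.1 : F) * (-t) ^ c.2.2.1 * u ^ c.2.2.2, ?_⟩
      rw [hcomm t u, commRhs_eq_wordGL hD _ _ t u _ hc]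
      simp only [wordGL, List.map_cons, List.map_nil, List.prod_cons, List.prod_nil, mul_one,
        dif_pos hb]
      rw [show (⟨c.1, hb⟩ : Root D) = b from Fin.ext hbv.symm, mul_assoc (X hD a t),
        (csb u _).eq, ← mul_assoc, mul_inv_cancel_right]
    have hAC : IsPGroup 2 ↥(D.rootSubgroup F a ⊔ D.rootSubgroup F b) :=
      hA.to_sup_of_normal_left' (isPGroup_rootSubgroup hD b) (commute_subgroups hD cab)
    have key : ∀ u : F, ∀ x ∈ D.rootSubgroup F a ⊔ D.rootSubgroup F b,
        X hD s u * x * (X hD s u)⁻¹ ∈ D.rootSubgroup F a ⊔ D.rootSubgroup F b := by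
      intro u
      suffices D.rootSubgroup F a ⊔ D.rootSubgroup F b ≤
          (D.rootSubgroup F a ⊔ D.rootSubgroup F b).comap
            (MulAut.conj (X hD s u)).toMonoidHom from fun x hx => this hx
      refine sup_le (fun x hx => ?_) (fun x hx => ?_)
      · obtain ⟨t, rfl⟩ := (mem_rootSubgroup_iff hD).1 hx
        obtain ⟨v, hv⟩ := hW t u
        rw [Subgroup.mem_comap, MulEquiv.coe_toMonoidHom, MulAut.conj_apply, hv]
        exact mul_mem (Subgroup.mem_sup_left (X_mem_rootSubgroup hD a t))
          (Subgroup.mem_sup_right (X_mem_rootSubgroup hD b v))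
      · obtain ⟨t, rfl⟩ := (mem_rootSubgroup_iff hD).1 hx
        rw [Subgroup.mem_comap, MulEquiv.coe_toMonoidHom, MulAut.conj_apply, (csb u t).eq,
          mul_inv_cancel_right]
        exact Subgroup.mem_sup_right (X_mem_rootSubgroup hD b t)
    refine (hAC.to_sup_of_normal_left' hB ?_).to_le (sup_le_sup_right le_sup_left _)
    intro g hg
    obtain ⟨u, rfl⟩ := (mem_rootSubgroup_iff hD).1 hg
    refine Subgroup.mem_normalizer_iff.2 fun x => ⟨key u x, fun hx => ?_⟩
    have := key (-u) _ hx
    rwa [← X_inv, show ∀ q h : GL D.Idx F, q⁻¹ * (q * h * q⁻¹) * q⁻¹⁻¹ = h from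
      fun q h => by group] at this
  · exact absurd h (by simp)

variable {C : Weyl.Cert D.rank} {M : CoxeterMatrix (Fin D.rank)} {R : Weyl.RootTable}

theorem rootPerm_mem_class (h : Weyl.RootGood C M R) {P : ℕ → Bool}
    (hP : ∀ (i : Fin D.rank) (r : Root D), P r = true → P (D.reflectRoot i r) = true)
    (w : M.Group) : ∀ r : Root D, P r = true → P (h.rootPerm w r) = true := by
  induction w using M.toCoxeterSystem.simple_induction_left with
  | one => intro r hr; simpa using hr
  | mul_simple_left w i ih =>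
    intro r hr
    rw [map_mul, Equiv.Perm.mul_apply, CoxeterMatrix.toCoxeterSystem_simple,
      h.rootPerm_simple_apply]
    exact hP i _ (ih r hr)

/-- A root subgroup and any conjugate of it: a 2-group, or conjugate to the opposite pair. -/
theorem pair_dichotomy [CharP F 2] (hW : GoodWeyl D) (h : Weyl.RootGood C M R) {P : ℕ → Bool}
    (hP : ∀ (i : Fin D.rank) (r : Root D), P r = true → P (D.reflectRoot i r) = true)
    {a : Root D} (haP : P a = true) (hapos : half D ≤ a) (hok : pairsOk D a P = true)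
    {g : GL D.Idx F} (hg : g ∈ D.group F) :
    IsPGroup 2 ↥(D.rootSubgroup F a ⊔ (D.rootSubgroup F a).map (MulAut.conj g).toMonoidHom) ∨
    ∃ k ∈ D.group F, (D.rootSubgroup F a ⊔
      (D.rootSubgroup F a).map (MulAut.conj g).toMonoidHom).map (MulAut.conj k).toMonoidHom =
      D.rootSubgroup F a ⊔ D.rootSubgroup F a.rev := by
  have hD := hW.good
  obtain ⟨u, hu, y, hy, w, u', hu', rfl⟩ := exists_bruhat hW h hg
  have hcent : ∀ v ∈ D.posUnipotent F, ∀ t : F, Commute (X hD a t) v := by
    intro v hv t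
    rw [posUnipotent_eq_closure hD] at hv
    induction hv using Subgroup.closure_induction with
    | mem x hx =>
      obtain ⟨r, hr, z, rfl⟩ := hx
      by_cases hra : r = a
      · subst hra; exact X_add_comm hD _ _ _
      · have h1 := hok
        simp only [pairsOk, Bool.and_eq_true, List.all_eq_true, List.mem_range] at h1
        have h2 := h1.1 r r.isLt
        simp only [decide_eq_true hr, Bool.not_true, Bool.false_or, List.isEmpty_iff] at h2
        exact commute_of_terms hW.toGoodComm hra (hD.rev_ne_of_key (b := false) hapos hr)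
          (by simp [h2]) t z
    | one => exact Commute.one_right _
    | mul p q _ _ hp hq => exact hp.mul_right hq
    | inv p _ hp => exact hp.inv_right
  set s := h.rootPerm w a with hs
  have hfix : ∀ v ∈ D.posUnipotent F,
      (D.rootSubgroup F a).map (MulAut.conj v).toMonoidHom = D.rootSubgroup F a := by
    intro v hv
    ext x
    simp only [Subgroup.mem_map, MulEquiv.coe_toMonoidHom, MulAut.conj_apply]
    refine ⟨?_, fun hx => ⟨x, hx, ?_⟩⟩
    · rintro ⟨z, hz, rfl⟩
      obtain ⟨t, rfl⟩ := (mem_rootSubgroup_iff hD).1 hz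
      rw [← (hcent v hv t).eq, mul_inv_cancel_right]
      exact hz
    · obtain ⟨t, rfl⟩ := (mem_rootSubgroup_iff hD).1 hx
      rw [← (hcent v hv t).eq, mul_inv_cancel_right]
  have hmid : (D.rootSubgroup F a).map (MulAut.conj (y * nW hW h F w)).toMonoidHom =
      D.rootSubgroup F s := by
    obtain ⟨c, hc⟩ := (monBy_nW (F := F) hW h w).conj_X a
    obtain ⟨e, he⟩ := diag_conj_X hW hy s
    have key : ∀ t, y * nW hW h F w * X hD a t * (y * nW hW h F w)⁻¹ =
        X hD s ((e : F) * ((c : F) * t)) := fun t => by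
      rw [show y * nW hW h F w * X hD a t * (y * nW hW h F w)⁻¹ =
        y * (nW hW h F w * X hD a t * (nW hW h F w)⁻¹) * y⁻¹ by group, hc, he]
    ext x
    simp only [Subgroup.mem_map, MulEquiv.coe_toMonoidHom, MulAut.conj_apply]
    constructor
    · rintro ⟨z, hz, rfl⟩
      obtain ⟨t, rfl⟩ := (mem_rootSubgroup_iff hD).1 hz
      rw [key]; exact X_mem_rootSubgroup hD _ _
    · intro hx
      obtain ⟨t, rfl⟩ := (mem_rootSubgroup_iff hD).1 hx
      refine ⟨_, X_mem_rootSubgroup hD a (((c⁻¹ : Fˣ) : F) * (((e⁻¹ : Fˣ) : F) * t)), ?_⟩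
      rw [key, ← mul_assoc (c : F), Units.mul_inv, one_mul, ← mul_assoc, Units.mul_inv, one_mul]
  have hconj : ∀ p q : GL D.Idx F, ∀ K : Subgroup (GL D.Idx F),
      K.map (MulAut.conj (p * q)).toMonoidHom =
        (K.map (MulAut.conj q).toMonoidHom).map (MulAut.conj p).toMonoidHom := by
    intro p q K
    rw [Subgroup.map_map]
    congr 1
    ext z
    simp [mul_assoc]
  have hall : D.rootSubgroup F a ⊔
      (D.rootSubgroup F a).map (MulAut.conj (u * y * nW hW h F w * u')).toMonoidHom =
      (D.rootSubgroup F a ⊔ D.rootSubgroup F s).map (MulAut.conj u).toMonoidHom := by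
    rw [Subgroup.map_sup, hfix u hu, mul_assoc u y, hconj, hfix u' hu', hconj, hmid]
  rw [hall]
  by_cases h1 : s = a
  · left
    rw [h1, sup_idem]
    exact (isPGroup_rootSubgroup hD a).map _
  by_cases h2 : s = a.rev
  · refine Or.inr ⟨u⁻¹, inv_mem (borel_le_group hW (pos_le_borel D hu)), ?_⟩
    rw [← hconj, inv_mul_cancel, h2, map_one]
    exact Subgroup.map_id _
  · exact Or.inl ((isPGroup_pair hW.toGoodComm hok (rootPerm_mem_class h hP w a haP) h1 h2).map _)

end CfsgLib.ChevInvol
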