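import Cfsg.Agent.Chevalley.Bruhat
import Cfsg.Agent.ChevTorus.Scaling

/-!
# Bruhat normal forms and commuting root elements
-/

set_option autoImplicit false

namespace CfsgLib.ChevInvol

open Cfsg.Lie CfsgLib.Chevalley

variable {D : ChevalleyDatum} {C : Weyl.Cert D.rank} {M : CoxeterMatrix (Fin D.rank)}
  {R : Weyl.RootTable} {F : Type*} [Field F]

/-- Every element is `u h n_w u'`. -/
theorem exists_bruhat (hW : GoodWeyl D) (h : Weyl.RootGood C M R) {g : GL D.Idx F}
    (hg : g ∈ D.group F) :
    ∃ u ∈ D.posUnipotent F, ∃ y ∈ D.diagonalSubgroup F, ∃ w : M.Group,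
      ∃ u' ∈ D.posUnipotent F, g = u * y * nW hW h F w * u' := by
  obtain ⟨w, b, hb, b', hb', rfl⟩ := exists_mem_cell hW h hg
  obtain ⟨u, hu, y, hy, rfl⟩ := (mem_borel_iff hW).1 hb
  obtain ⟨u', hu', k, hk, rfl⟩ := (mem_borel_iff hW).1 hb'
  have hn := Subgroup.mem_normalizer_iff.1 (monomial_le_normalizer hW (nW_mem (F := F) hW h w))
  refine ⟨u, hu, y * (nW hW h F w * k * (nW hW h F w)⁻¹), mul_mem hy ((hn k).1 hk), w,
    k⁻¹ * u' * k, ?_, by group⟩
  have := ((Subgroup.mem_normalizer_iff.1 (diag_le_normalizer_pos hW (inv_mem hk))) u').1 hu'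
  rwa [inv_inv] at this

theorem X_add_comm (hD : Good D) (r : Root D) (t u : F) :
    Commute (X hD r t) (X hD r u) := by
  rw [Commute, SemiconjBy, X_mul, X_mul, add_comm]

/-- Root elements commute when all coefficients of the commutator formula vanish in the field. -/
theorem commute_of_terms (hC : GoodComm D) {r s : Root D} (h1 : s ≠ r) (h2 : s ≠ r.rev)
    (h0 : ∀ c ∈ D.commTerms r s, (c.2.1 : F) = 0) (t u : F) :
    Commute (X hC.good r t) (X hC.good s u) := by
  have hone : commRhs hC.good (r : ℕ) s t u = 1 := by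
    have : ∀ L : List (ℕ × F), (∀ p ∈ L, p.2 = 0) → (wordGL hC.good L : GL D.Idx F) = 1 := by
      intro L hL
      refine List.prod_eq_one fun x hx => ?_
      obtain ⟨p, hp, rfl⟩ := List.mem_map.1 hx
      rw [hL p hp]
      split
      · exact X_zero _ _
      · rfl
    refine this _ fun p hp => ?_
    obtain ⟨c, hc, rfl⟩ := List.mem_map.1 hp
    simp [h0 c hc]
  have := X_comm hC r s h1 h2 t u
  rw [hone, mul_one] at this
  exact this.symm

/-- Two root elements with equal nonzero parameters coincide only for equal roots. -/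
theorem X_eq_iff (hU : GoodUni D) {r s : Root D} {t u : F} (ht : t ≠ 0)
    (h : X hU.good r t = X hU.good s u) : r = s ∧ t = u := by
  by_contra hne
  by_cases hrs : r = s
  · subst hrs
    exact hne ⟨rfl, X_injective hU.good r h⟩
  · exact X_ne hU hrs ht u h

end CfsgLib.ChevInvol
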