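import Cfsg.Agent.ChevInvol.Bruhat
import Cfsg.Agent.ChevTorus.Basic

/-!
# Diagonal matrices of characters inside the Chevalley group
-/

set_option autoImplicit false

namespace CfsgLib.ChevInvol

open Cfsg.Lie CfsgLib.Chevalley

variable {D : ChevalleyDatum} {C : Weyl.Cert D.rank} {M : CoxeterMatrix (Fin D.rank)}
  {R : Weyl.RootTable} {F : Type*} [Field F]

theorem mem_diagonal_of_charDiag (hW : GoodWeyl D) (h : Weyl.RootGood C M R)
    (hok : ChevTorus.chainOK D = true) {χ : ℕ → Fˣ} (hχ : D.IsRootCharacter χ) {g : GL D.Idx F}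
    (hg : g ∈ D.group F) (hgχ : (g : Matrix D.Idx D.Idx F) = D.charDiag F χ) :
    g ∈ D.diagonalSubgroup F := by
  have hinv : D.charDiag F χ * D.charDiag F (fun s => (χ s)⁻¹) = 1 := by
    rw [ChevalleyDatum.charDiag, ChevalleyDatum.charDiag, Matrix.diagonal_mul_diagonal,
      ← Matrix.diagonal_one]
    congr 1
    funext a
    rcases a with i | s <;> simp
  have hginv : ((g⁻¹ : GL D.Idx F) : Matrix D.Idx D.Idx F) = D.charDiag F fun s => (χ s)⁻¹ := by
    rw [← mul_one ((g⁻¹ : GL D.Idx F) : Matrix D.Idx D.Idx F), ← hinv, ← mul_assoc, ← hgχ,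
      ← Units.val_mul, inv_mul_cancel, Units.val_one, one_mul]
  have hconj : ∀ (r : Root D) (t : F), g * X hW.good r t * g⁻¹ = X hW.good r ((χ r : F) * t) := by
    intro r t
    apply Units.ext
    rw [Units.val_mul, Units.val_mul, hgχ, hginv, coe_X, coe_X, ← x_eq_xR hW.good,
      ← x_eq_xR hW.good]
    exact ChevTorus.charDiag_conj_x D hok χ hχ r r.isLt t
  have hgU : ∀ u ∈ D.posUnipotent F, g * u * g⁻¹ ∈ D.posUnipotent F := by
    intro u hu
    rw [posUnipotent_eq_closure hW.good] at hu ⊢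
    induction hu using Subgroup.closure_induction with
    | mem x hx =>
      obtain ⟨r, hr, t, rfl⟩ := hx
      exact Subgroup.subset_closure ⟨r, hr, _, (hconj r t).symm⟩
    | one => simp
    | mul a b _ _ ha hb =>
      rw [show g * (a * b) * g⁻¹ = (g * a * g⁻¹) * (g * b * g⁻¹) by group]
      exact mul_mem ha hb
    | inv a _ ha =>
      rw [show g * a⁻¹ * g⁻¹ = (g * a * g⁻¹)⁻¹ by group]
      exact inv_mem ha
  obtain ⟨u, hu, y, hy, w, u', hu', e⟩ := exists_bruhat hW h hg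
  have hpos : ∀ r : Root D, half D ≤ r → half D ≤ (h.rootPerm w r : ℕ) := by
    intro r hr
    obtain ⟨c, hc⟩ := (monBy_nW (F := F) hW h w).conj_X r
    have hm : nW hW h F w * X hW.good r 1 * (nW hW h F w)⁻¹ ∈ D.posUnipotent F := by
      rw [show nW hW h F w = y⁻¹ * (u⁻¹ * g * u'⁻¹) by rw [e]; group,
        show y⁻¹ * (u⁻¹ * g * u'⁻¹) * X hW.good r 1 * (y⁻¹ * (u⁻¹ * g * u'⁻¹))⁻¹ =
          y⁻¹ * (u⁻¹ * (g * (u'⁻¹ * X hW.good r 1 * u') * g⁻¹) * u) * y⁻¹⁻¹ by group]
      exact (Subgroup.mem_normalizer_iff.1 (diag_le_normalizer_pos hW (inv_mem hy)) _).1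
        (mul_mem (mul_mem (inv_mem hu) (hgU _ (mul_mem (mul_mem (inv_mem hu')
          (Chevalley.X_mem_pos hW.good hr 1)) hu'))) hu)
    rw [hc, mul_one, posUnipotent_eq hW.good] at hm
    exact key_of_X_mem (b := false) hW.toGoodUni c.ne_zero hm
  have hw : w = 1 := h.eq_one_of_invSet_empty (Finset.eq_empty_of_forall_notMem fun r hr => by
    rw [Weyl.RootGood.mem_invSet, posIdx_iff hW.good h, posIdx_iff hW.good h] at hr
    exact hr.2 (hpos r hr.1))
  have hB : g ∈ D.borelSubgroup F := by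
    rw [e, hw]
    exact mul_mem (mul_mem (mul_mem (pos_le_borel D hu) (diag_le_borel D hy))
      (by rw [← SetLike.mem_coe, ← cell_one hW h]; exact nW_mem_cell hW h 1)) (pos_le_borel D hu')
  obtain ⟨v, hv, k, hk, hvk⟩ := (mem_borel_iff hW).1 hB
  suffices hv1 : v = 1 by rw [← hvk, hv1, one_mul]; exact hk
  rw [posUnipotent_eq hW.good] at hv
  have hlow := isLower_of_mem hW.good hv
  rw [diagonalSubgroup_eq_range hW] at hk
  obtain ⟨c, rfl⟩ := hk
  apply Units.ext
  ext a b
  rcases eq_or_ne a b with rfl | hab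
  · rw [hlow.1, Units.val_one, Matrix.one_apply_eq]
  · rw [Units.val_one, Matrix.one_apply_ne hab]
    have h1 : (v : Matrix D.Idx D.Idx F) * ((torC D c : GL D.Idx F) : Matrix D.Idx D.Idx F) =
        D.charDiag F χ := by rw [← hgχ, ← hvk]; rfl
    have h2 := congrFun (congrFun h1 a) b
    rw [ChevTorus.coe_torC, Matrix.mul_diagonal, ChevalleyDatum.charDiag,
      Matrix.diagonal_apply_ne _ hab] at h2
    exact (mul_eq_zero.1 h2).resolve_right (Units.ne_zero _)

end CfsgLib.ChevInvol
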