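import Cfsg.Agent.WeylStab.Stabilizer
import Cfsg.Agent.ChevInvol.Bruhat
import Mathlib.Algebra.CharP.Two
import Mathlib.LinearAlgebra.Matrix.GeneralLinearGroup.Defs

/-!
# Centralizers of root involutions in characteristic two
-/

set_option autoImplicit false

namespace CfsgLib.ChevInvol

open Cfsg.Lie CfsgLib.Chevalley

variable {D : ChevalleyDatum}

/-- The subgroup generated by the positive root elements and the root elements of a list of
roots. -/
def radLevi (D : ChevalleyDatum) (F : Type*) [Field F] (L : List ℕ) : Subgroup (GL D.Idx F) :=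
  D.posUnipotent F ⊔
    Subgroup.closure {g | ∃ s ∈ L, ∃ c : F, (g : Matrix D.Idx D.Idx F) = D.x F s c}

/-- The table check for a root `a` and a list of roots `L`. -/
def centOk (D : ChevalleyDatum) (a : ℕ) (L : List ℕ) : Bool :=
  decide (a < D.nroots) && decide (D.IsPosRoot a) &&
  (List.range D.nroots).all (fun s => decide (s = a) ||
    (!(decide (D.IsPosRoot s) || decide (s ∈ L)) || (decide (s ≠ D.neg a) &&
      (D.commTerms a s).all fun c => decide ((2 : ℤ) ∣ c.2.1)))) &&
  L.all fun s => decide (s < D.nroots)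

theorem centOk_root {a : ℕ} {L : List ℕ} (hok : centOk D a L = true) :
    a < D.nroots ∧ D.IsPosRoot a ∧ (∀ s ∈ L, s < D.nroots) ∧
      ∀ s < D.nroots, s ≠ a → (D.IsPosRoot s ∨ s ∈ L) →
        s ≠ D.neg a ∧ ∀ c ∈ D.commTerms a s, (2 : ℤ) ∣ c.2.1 := by
  simp only [centOk, Bool.and_eq_true, Bool.or_eq_true, Bool.not_eq_true', Bool.or_eq_false_iff,
    decide_eq_true_eq, decide_eq_false_iff_not, List.all_eq_true, List.mem_range] at hok
  refine ⟨hok.1.1.1, hok.1.1.2, hok.2, fun s hs hsa hp => ?_⟩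
  rcases (hok.1.2 s hs).resolve_left hsa with ⟨h4, h5⟩ | h3
  · rcases hp with hp | hp
    · exact absurd hp h4
    · exact absurd hp h5
  · exact h3

variable {C : Weyl.Cert D.rank} {M : CoxeterMatrix (Fin D.rank)} {R : Weyl.RootTable}
  {F : Type*} [Field F]

theorem radLevi_le_group (hD : Good D) {L : List ℕ} (hL : ∀ s ∈ L, s < D.nroots) :
    radLevi D F L ≤ D.group F := by
  refine sup_le ((Subgroup.closure_le _).2 ?_) ((Subgroup.closure_le _).2 ?_)
  · rintro g ⟨r, t, hr, hg⟩; rw [(coe_eq_x_iff hD hr.1).1 hg]; exact X_mem_group hD _ t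
  · rintro g ⟨s, hs, c, hg⟩; rw [(coe_eq_x_iff hD (hL s hs)).1 hg]; exact X_mem_group hD _ c

theorem radLevi_le_centralizer [CharP F 2] (hW : GoodWeyl D) {a : Root D} {L : List ℕ}
    (hok : centOk D a L = true) :
    radLevi D F L ≤ Subgroup.centralizer {X hW.good a (1 : F)} := by
  obtain ⟨-, -, hL, hall⟩ := centOk_root hok
  have key : ∀ s : Root D, (D.IsPosRoot s ∨ (s : ℕ) ∈ L) → ∀ c,
      X hW.good s c ∈ Subgroup.centralizer ({X hW.good a (1 : F)} : Set (GL D.Idx F)) := by
    intro s hp c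
    rw [Subgroup.mem_centralizer_singleton_iff]
    by_cases hsa : s = a
    · subst hsa; exact X_add_comm _ _ _ _
    · obtain ⟨h1, h2⟩ := hall s s.isLt (fun e => hsa (Fin.ext e)) hp
      rw [hW.good.neg_fin] at h1
      exact (commute_of_terms hW.toGoodComm hsa (fun e => h1 (congrArg Fin.val e))
        (fun c hc => (CharP.intCast_eq_zero_iff F 2 _).2 (by exact_mod_cast h2 c hc)) 1 c).symm.eq
  refine sup_le ((Subgroup.closure_le _).2 ?_) ((Subgroup.closure_le _).2 ?_)
  · rintro g ⟨r, t, hr, hg⟩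
    rw [(coe_eq_x_iff hW.good hr.1).1 hg]; exact key ⟨r, hr.1⟩ (.inl hr) t
  · rintro g ⟨s, hs, c, hg⟩
    rw [(coe_eq_x_iff hW.good (hL s hs)).1 hg]; exact key ⟨s, hL s hs⟩ (.inr hs) c

theorem diagonal_le_normalizer_radLevi (hW : GoodWeyl D) {L : List ℕ}
    (hL : ∀ s ∈ L, s < D.nroots) :
    D.diagonalSubgroup F ≤ Subgroup.normalizer (radLevi D F L : Set (GL D.Idx F)) := by
  have e : radLevi D F L = Subgroup.closure {g : GL D.Idx F | ∃ (r : ℕ) (t : F), r < D.nroots ∧
      (D.IsPosRoot r ∨ r ∈ L) ∧ (g : Matrix D.Idx D.Idx F) = D.x F r t} := by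
    rw [radLevi, ChevalleyDatum.posUnipotent, ← Subgroup.closure_union]
    congr 1
    ext g
    simp only [Set.mem_union, Set.mem_ofPred_eq]
    constructor
    · rintro (⟨r, t, hr, hg⟩ | ⟨s, hs, c, hg⟩)
      · exact ⟨r, t, hr.1, .inl hr, hg⟩
      · exact ⟨s, c, hL s hs, .inr hs, hg⟩
    · rintro ⟨r, t, -, hr | hr, hg⟩
      · exact .inl ⟨r, t, hr, hg⟩
      · exact .inr ⟨r, hr, t, hg⟩
  rw [e]
  exact ChevTorus.diagonal_le_normalizer hW _

/-- The centralizer of the involution of a dominant root. -/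
theorem centralizer_root [CharP F 2] (hW : GoodWeyl D) (h : Weyl.RootGood C M R)
    (hw : Weyl.weightOk C = true) {a : Root D} {L : List ℕ} (hok : centOk D a L = true)
    (hdom : ∀ k : Fin D.rank, 0 ≤ D.cartan k a) (j : Fin D.rank) (hj : D.cartan j a = 1)
    (hL : ∀ i : Fin D.rank, i ≠ j → D.neg (D.simple i) ∈ L) :
    D.group F ⊓ Subgroup.centralizer {X hW.good a (1 : F)} = radLevi D F L := by
  obtain ⟨-, -, hLn, -⟩ := centOk_root hok
  refine le_antisymm (fun g hg => ?_)
    (le_inf (radLevi_le_group hW.good hLn) (radLevi_le_centralizer hW hok))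
  obtain ⟨hg, hgt⟩ := hg
  set Q := radLevi D F L with hQ
  let T : Subgroup (GL D.Idx F) :=
    (MonoidHom.mk' (fun t : Fˣ => hT F (pRoot hW j) t) fun _ _ => (hT_mul _ _ _).symm).range
  have hQc := radLevi_le_centralizer (F := F) hW hok
  have hUQ : D.posUnipotent F ≤ Q := le_sup_left
  have hp : ∀ (i : Fin D.rank) (c : F), X hW.good (pRoot hW i) c ∈ Q := fun i c =>
    hUQ (Chevalley.X_mem_pos hW.good (pRoot_pos hW i) c)
  have hn : ∀ i : Fin D.rank, i ≠ j → ∀ c : F, X hW.good (pRoot hW i).rev c ∈ Q := by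
    intro i hi c
    refine (le_sup_right : _ ≤ Q) (Subgroup.subset_closure ⟨_, hL i hi, c, ?_⟩)
    rw [show D.neg (D.simple i) = ((pRoot hW i).rev : ℕ) from hW.good.neg_fin (pRoot hW i)]
    exact (coe_eq_x_iff hW.good _).2 rfl
  have hN : ∀ i : Fin D.rank, i ≠ j → ∀ t : Fˣ, nElt hW.good (pRoot hW i) t ∈ Q := fun i hi t =>
    mul_mem (mul_mem (hp i _) (hn i hi _)) (hp i _)
  have hH : D.diagonalSubgroup F ≤ Q ⊔ T := by
    rw [diagonalSubgroup_eq_range hW]
    rintro _ ⟨c, rfl⟩
    show torC D c ∈ _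
    rw [torC_eq_prod hW]
    refine Subgroup.list_prod_mem _ fun x hx => ?_
    obtain ⟨i, -, rfl⟩ := List.mem_map.1 hx
    by_cases hij : i = j
    · subst hij; exact Subgroup.mem_sup_right ⟨c i, rfl⟩
    · rw [← hElt_eq hW]
      exact Subgroup.mem_sup_left (mul_mem (hN i hij _) (hN i hij _))
  obtain ⟨u, hu, y, hy, w, u', hu', rfl⟩ := exists_bruhat hW h hg
  obtain ⟨ε, hεc⟩ := (monBy_nW (F := F) hW h w).conj_X a
  obtain ⟨e, he⟩ := diag_conj_X hW hy (h.rootPerm w a)
  have hfix : y * nW hW h F w * X hW.good a 1 * (y * nW hW h F w)⁻¹ = X hW.good a 1 := by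
    have hm : y * nW hW h F w ∈
        Subgroup.centralizer ({X hW.good a (1 : F)} : Set (GL D.Idx F)) := by
      have h1 := mul_mem (mul_mem (inv_mem (hQc (hUQ hu))) hgt) (inv_mem (hQc (hUQ hu')))
      simpa [mul_assoc] using h1
    rw [Subgroup.mem_centralizer_singleton_iff.1 hm, mul_inv_cancel_right]
  have hwa : h.rootPerm w a = a := by
    rw [show y * nW hW h F w * X hW.good a 1 * (y * nW hW h F w)⁻¹ =
      y * (nW hW h F w * X hW.good a 1 * (nW hW h F w)⁻¹) * y⁻¹ by group, hεc, he] at hfix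
    exact (X_eq_iff hW.toGoodUni (by simp) hfix).1
  have hone : ∀ v : M.Group, v ∈ Subgroup.closure
      {s : M.Group | ∃ i : Fin D.rank, D.cartan i a = 0 ∧ s = M.simple i} →
      ∀ n : ↥(D.monomialSubgroup F), weylHom hW h n = v → (n : GL D.Idx F) ∈ Q ⊔ T := by
    intro v hv
    have hker : ∀ n : ↥(D.monomialSubgroup F), weylHom hW h n = 1 → (n : GL D.Idx F) ∈ Q ⊔ T := by
      intro n hn1
      have : n ∈ (weylHom (F := F) hW h).ker := hn1
      rw [ker_weylHom hW h] at this
      exact hH this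
    induction hv using Subgroup.closure_induction with
    | mem s hs =>
      obtain ⟨i, hi, rfl⟩ := hs
      intro n hns
      have hij : i ≠ j := fun e => by rw [e, hj] at hi; simp at hi
      have h1 := hker (⟨nR hW i, Chevalley.nR_mem_monomial hW i⟩⁻¹ * n)
        (by rw [map_mul, map_inv, weylHom_nR, hns, inv_mul_cancel])
      have h2 : (nR hW i : GL D.Idx F) ∈ Q ⊔ T := by
        rw [← nElt_one hW i]; exact Subgroup.mem_sup_left (hN i hij 1)
      simpa using mul_mem h2 h1
    | one => exact hker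
    | mul v v' _ _ ih ih' =>
      intro n hn1
      obtain ⟨m, hm⟩ := weylHom_surjective (F := F) hW h v
      have h1 := ih' (m⁻¹ * n) (by rw [map_mul, map_inv, hm, hn1, inv_mul_cancel_left])
      simpa using mul_mem (ih m hm) h1
    | inv v _ ih =>
      intro n hn1
      simpa using inv_mem (ih n⁻¹ (by rw [map_inv, hn1, inv_inv]))
  have hmem : u * y * nW hW h F w * u' ∈ Q ⊔ T :=
    mul_mem (mul_mem (mul_mem (Subgroup.mem_sup_left (hUQ hu)) (hH hy))
      (hone w (h.stabilizer_root hw hdom hwa) ⟨_, nW_mem hW h w⟩ (weylHom_nW hW h w _)))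
      (Subgroup.mem_sup_left (hUQ hu'))
  have hTH : T ≤ D.diagonalSubgroup F := by
    rintro _ ⟨t, rfl⟩; exact hT_mem_diagonal hW _ _
  rw [← SetLike.mem_coe, Subgroup.coe_mul_of_right_le_normalizer_left _ _
    (hTH.trans (diagonal_le_normalizer_radLevi hW hLn))] at hmem
  obtain ⟨q, hq, _, ⟨c, rfl⟩, hqz⟩ := hmem
  simp only [MonoidHom.mk'_apply] at hqz
  have hz : hT F (pRoot hW j) c ∈
      Subgroup.centralizer ({X hW.good a (1 : F)} : Set (GL D.Idx F)) := by
    have := mul_mem (inv_mem (hQc hq)) (hqz ▸ hgt)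
    simpa [← mul_assoc] using this
  have hc : c = 1 := by
    have h1 := hT_pRoot_conj_X hW j c a (1 : F)
    rw [Subgroup.mem_centralizer_singleton_iff.1 hz, mul_inv_cancel_right, hj, zpow_one,
      mul_one] at h1
    exact Units.ext (X_injective hW.good a h1).symm
  rw [← hqz, hc, hT_one, mul_one]
  exact hq

end CfsgLib.ChevInvol
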