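import Cfsg.Agent.ChevInvol.Support
import Cfsg.Agent.ChevInvol.RootCentralizer

/-!
# Bruhat forms inside a parabolic subgroup of corank two
-/

set_option autoImplicit false

namespace CfsgLib.ChevInvol

open Cfsg.Lie CfsgLib.Chevalley

variable {D : ChevalleyDatum} {C : Weyl.Cert D.rank} {M : CoxeterMatrix (Fin D.rank)}
  {R : Weyl.RootTable} {F : Type*} [Field F]

/-- A Bruhat form with its Weyl element in the parabolic subgroup omitting `i` and `j` is a
product of an element of the root group and of a torus element for `i` and `j`. -/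
theorem mem_parabolicTorus (hW : GoodWeyl D) (h : Weyl.RootGood C M R) {S : ℕ → Bool}
    {i j : Fin D.rank} (hpos : ∀ r : Root D, half D ≤ (r : ℕ) → S r = true)
    (hneg : ∀ k : Fin D.rank, k ≠ i → k ≠ j → S ((pRoot hW k).rev : ℕ) = true)
    {u y u' : GL D.Idx F} (hu : u ∈ D.posUnipotent F) (hy : y ∈ D.diagonalSubgroup F)
    (hu' : u' ∈ D.posUnipotent F) {w : M.Group}
    (hw : w ∈ Subgroup.closure {s : M.Group | ∃ k : Fin D.rank, (k ≠ i ∧ k ≠ j) ∧ s = M.simple k}) :
    ∃ k ∈ rootGen hW.good F {r | S r = true}, ∃ c d : Fˣ,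
      u * y * nW hW h F w * u' = k * (hT F (pRoot hW i) c * hT F (pRoot hW j) d) := by
  set K := rootGen hW.good F {r : Root D | S r = true} with hK
  let T : Subgroup (GL D.Idx F) :=
    (MonoidHom.mk' (fun p : Fˣ × Fˣ => hT F (pRoot hW i) p.1 * hT F (pRoot hW j) p.2) fun p q => by
      show hT F (pRoot hW i) (p.1 * q.1) * hT F (pRoot hW j) (p.2 * q.2) = _
      rw [← hT_mul, ← hT_mul, mul_assoc, mul_assoc]
      congr 1
      rw [← mul_assoc, ← mul_assoc, diag_comm hW (hT_mem_diagonal hW _ _)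
        (hT_mem_diagonal hW _ _)]).range
  have hX : ∀ (k : Fin D.rank) (c : F), X hW.good (pRoot hW k) c ∈ K := fun k c =>
    X_mem_rootGen hW.good (S := {r | S r = true}) (hpos _ (pRoot_pos hW k)) c
  have hN : ∀ k : Fin D.rank, k ≠ i → k ≠ j → ∀ t : Fˣ, nElt hW.good (pRoot hW k) t ∈ K :=
    fun k hki hkj t => mul_mem (mul_mem (hX k _)
      (X_mem_rootGen hW.good (S := {r | S r = true}) (hneg k hki hkj) _)) (hX k _)
  have hH : D.diagonalSubgroup F ≤ K ⊔ T := by
    rw [diagonalSubgroup_eq_range hW]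
    rintro _ ⟨c, rfl⟩
    show torC D c ∈ _
    rw [torC_eq_prod hW]
    refine Subgroup.list_prod_mem _ fun z hz => ?_
    obtain ⟨k, -, rfl⟩ := List.mem_map.1 hz
    by_cases hki : k = i
    · subst hki
      exact Subgroup.mem_sup_right ⟨(c k, 1), by simp [hT_one]⟩
    by_cases hkj : k = j
    · subst hkj
      exact Subgroup.mem_sup_right ⟨(1, c k), by simp [hT_one]⟩
    rw [← hElt_eq hW]
    exact Subgroup.mem_sup_left (mul_mem (hN k hki hkj _) (hN k hki hkj _))
  have hU : D.posUnipotent F ≤ K := by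
    rw [posUnipotent_eq_rootGen hW.good]
    exact rootGen_mono hW.good fun r hr => hpos r hr
  have hnW : nW hW h F w ∈ K ⊔ T := by
    refine nW_mem_of_closure hW h hH (S := {k | k ≠ i ∧ k ≠ j}) (fun k hk => ?_) hw
    rw [← nElt_one hW k]
    exact Subgroup.mem_sup_left (hN k hk.1 hk.2 1)
  have hmem : u * y * nW hW h F w * u' ∈ K ⊔ T :=
    mul_mem (mul_mem (mul_mem (Subgroup.mem_sup_left (hU hu)) (hH hy)) hnW)
      (Subgroup.mem_sup_left (hU hu'))
  have hTN : T ≤ Subgroup.normalizer (K : Set (GL D.Idx F)) := by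
    refine le_trans ?_ (diag_le_normalizer_rootGen hW _)
    rintro _ ⟨p, rfl⟩
    exact mul_mem (hT_mem_diagonal hW _ _) (hT_mem_diagonal hW _ _)
  rw [← SetLike.mem_coe, Subgroup.coe_mul_of_right_le_normalizer_left _ _ hTN] at hmem
  obtain ⟨k, hk, _, ⟨p, rfl⟩, e⟩ := hmem
  exact ⟨k, hk, p.1, p.2, e.symm⟩

end CfsgLib.ChevInvol
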