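import Cfsg.Agent.ChevInvol.RootCentralizer
import Cfsg.Agent.Weyl.RootE6
import Cfsg.Agent.Weyl.RootE7
import Cfsg.Agent.Weyl.RootE8
import Cfsg.Agent.Weyl.RootF4

/-!
# Table checks for the root involution centralizers
-/

set_option autoImplicit false

namespace CfsgLib.ChevInvol

open Cfsg.Lie CfsgLib.Weyl

set_option maxRecDepth 100000
set_option maxHeartbeats 2000000

/-- An entry of packed Cartan rows: four bits per root, offset by eight. -/
def packAt (P : List ℕ) (k r : ℕ) : ℤ := ((P.getD k 0 >>> (4 * r)) % 16 : ℕ) - 8

/-- The packed rows agree with the Cartan table. -/
def packOk (D : ChevalleyDatum) (P : List ℕ) : Bool :=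
  (List.range D.rank).all fun k => (List.range D.nroots).all fun r =>
    decide (packAt P k r = D.cartan k r)

/-- The equivariance check of `rootWeight`, read off packed tables. -/
def weightOkFast {D : ChevalleyDatum} (C : Cert D.rank) (R : RootTable) (P : List ℕ) : Bool :=
  packOk D P && (List.range D.nroots).all fun r => (List.finRange D.rank).all fun i =>
    (List.finRange D.rank).all fun k =>
      decide (packAt P k r - packAt P i r * C.a k i = packAt P k (rstep R i r))

theorem weightOk_of_fast {D : ChevalleyDatum} {C : Cert D.rank} {M : CoxeterMatrix (Fin D.rank)}
    {R : RootTable} {P : List ℕ} (h : RootGood C M R) (hok : weightOkFast C R P = true) :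
    weightOk C = true := by
  simp only [weightOk, List.all_eq_true, List.mem_range, List.mem_finRange, forall_const,
    decide_eq_true_eq]
  intro r hr i k
  simp only [weightOkFast, packOk, Bool.and_eq_true, List.all_eq_true, List.mem_range,
    List.mem_finRange, forall_const, decide_eq_true_eq] at hok
  obtain ⟨hg1, hg2, -⟩ := (h.root_facts hr).2.2.2.2.2.2 i i.2
  have h1 := hok.2 r hr i k
  rw [hok.1 k k.2 r hr, hok.1 i i.2 r hr, hok.1 k k.2 _ hg2, hg1] at h1
  rw [← show D.cartan k (D.reflectRoot i r) = rootWeight D (D.reflectRoot i r) k from rfl, ← h1]
  simp only [Cert.reflFun, rootWeight]
  split_ifs with hz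
  · rw [hz, mul_zero, sub_zero]
  · rfl

/-- The packed Cartan rows of E6. -/
def cartanPackE6 : List ℕ := [
    0x888889999999999a77777788887777888888888888999988889999996777777777788888,
    0x9788888899977788888999999a7778777888888999899967777778888899977788888897,
    0x88999777888888978889997778999a777888888999677789997778889788888899977788,
    0x89788899778889788997788897889799a778899677978897888997788978889977888978,
    0x8897897889789788978897897889788979a7967978897889789788978897897889789788,
    0x88897897978978888979789788978897897a697897889788978979788889789797897888]

/-- The packed Cartan rows of E7. -/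
def cartanPackE7 : List ℕ := [
    0x97888888888888888999999999999999a777777777788888777778888888888888888888899999888889999999999677777777777777788888888888888897,
    0x88899997777888888888888999977778888888899999999a777787777888888888888999989999677777777888888889999777788888888888899997777888,
    0x8978888888899999977777788888888978888889999777789999a7777888888888888999967777899997777888888978888888899999977777788888888978,
    0x88978888999777888888999777888897888899977788889788897999a777888888999677797888978888999777888897888899977788888899977788889788,
    0x88897889788899778899778889788978889977888978897888978889799a778899677978889788897889788899778889788978889977889977888978897888,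
    0x8888978897897889797889789788978889788978978897888978889788979a7967978897888978889788978978897888978897897889797889789788978888,
    0x88888978897897978897978978897888889797897889788897888978897897a697897889788897888978897897978888897889789797889797897889788888]

/-- The packed Cartan rows of E8. -/
def cartanPackE8 : List ℕ := [
    0x88888898999999777777788888888888888888888888888888888888999999999999999999999a777777777777777888888777777888888888888888888888888888888999999888888999999999999999677777777777777777777788888888888888888888888888888888888999999977777787888888,
    0x88888997788888978888888888999999999977777777778888888888888888888899999777778888888888889999999999a777778777778888888888888888888899999899999677777777778888888888889999977777888888888888888888889999999999777777777788888888889788888997788888,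
    0x88888979788888889999977777888888888888888888889999999999777777777788888888889788888888889999977777899999a777778888888888888888888899999677777899999777778888888888978888888888999999999977777777778888888888888888888899999777778888888979788888,
    0x8888978897888889788888999977778888888888999999777777888888888899997777888889788888889999777788888978888979999a7777888888888888999967777978888978888899997777888888897888889999777788888888889999997777778888888888999977778888897888889788978888,
    0x88897888897888889788897888899977788889997778888889997778888999777888897888978888899977788889788897888897888897999a777888888999677797888897888897888978888999777888889788897888899977788889997778888889997778888999777888897888978888897888897888,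
    0x88978888889788888978889788978889977897888997788997788897899778889788978889788889977888978897888978888978888978889799a778899677978889788889788889788897889788899778888978889788978889977897888997788997788897899778889788978889788888978888889788,
    0x8978888888897888889788897889789788978978978897978897897897889789788978889788889788978978897888978888978888978889788979a7967978897888978888978888978889788978978897888897888978897897889789789788979788978978978897897889788897888889788888888978,
    0x97888888888897888889788897889789797888978979788979789788897978978897888978888889797897889788897888897888897888978897897a697897889788897888897888897888978897897978888889788897889789797888978979788979789788897978978897888978888897888888888897]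

/-- The packed Cartan rows of F4. -/
def cartanPackF4 : List ℕ := [
    0x8889aaa7888999a666777888888999aaa677788896667888,
    0x88a8688979977978aa88a6688aa6886689799779788a8688,
    0x8978978897889789788979a7967978897897889788978978,
    0x97888978897978889797897a697897978889797889788897]

/-- The node checks: `a` is dominant, pairs to one with node `j` and the other negative simple
roots lie in `L`. -/
def nodeOk (D : ChevalleyDatum) (a j : ℕ) (L : List ℕ) : Bool :=
  decide (j < D.rank) && decide (D.cartan j a = 1) &&
  (List.range D.rank).all fun i => decide (0 ≤ D.cartan i a) &&
    (decide (i = j) || decide (D.neg (D.simple i) ∈ L))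

theorem nodeOk_spec {D : ChevalleyDatum} {a j : ℕ} {L : List ℕ} (hok : nodeOk D a j L = true) :
    ∃ hj : j < D.rank, (∀ k : Fin D.rank, 0 ≤ D.cartan k a) ∧ D.cartan (⟨j, hj⟩ : Fin D.rank) a = 1 ∧
      ∀ i : Fin D.rank, i ≠ ⟨j, hj⟩ → D.neg (D.simple i) ∈ L := by
  simp only [nodeOk, Bool.and_eq_true, Bool.or_eq_true, decide_eq_true_eq, List.all_eq_true,
    List.mem_range] at hok
  exact ⟨hok.1.1, fun k => (hok.2 k k.2).1, hok.1.2,
    fun i hi => (hok.2 i i.2).2.resolve_left fun e => hi (Fin.ext e)⟩

/-- The centralizer of the involution of a root, from a single table check. -/
theorem centralizer_root_of_tables {D : ChevalleyDatum} {C : Cert D.rank}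
    {M : CoxeterMatrix (Fin D.rank)} {R : RootTable} {F : Type*} [Field F] [CharP F 2]
    (hW : Chevalley.GoodWeyl D) (h : RootGood C M R) {a j : ℕ} {L P : List ℕ}
    (hok : weightOkFast C R P = true ∧ centOk D a L = true ∧ nodeOk D a j L = true)
    {t : GL D.Idx F} (ht : (t : Matrix D.Idx D.Idx F) = D.x F a 1) :
    D.group F ⊓ Subgroup.centralizer {t} = radLevi D F L := by
  obtain ⟨hj, h1, h2, h3⟩ := nodeOk_spec hok.2.2
  have ha := (centOk_root hok.2.1).1
  rw [(Chevalley.coe_eq_x_iff hW.good ha).1 ht]
  exact centralizer_root hW h (weightOk_of_fast h hok.1) (a := ⟨a, ha⟩) hok.2.1 h1 ⟨j, hj⟩ h2 h3

theorem tablesE6 : weightOkFast (D := chevE6) certE6 reflTableE6 cartanPackE6 = true ∧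
    centOk chevE6 71 [15, 29, 32, 34, 35] = true ∧
    nodeOk chevE6 71 1 [15, 29, 32, 34, 35] = true := by
  refine ⟨?_, ?_, ?_⟩ <;> decide +kernel

theorem tablesE7 : weightOkFast (D := chevE7) certE7 reflTableE7 cartanPackE7 = true ∧
    centOk chevE7 125 [47, 52, 56, 59, 61, 62] = true ∧
    nodeOk chevE7 125 0 [47, 52, 56, 59, 61, 62] = true := by
  refine ⟨?_, ?_, ?_⟩ <;> decide +kernel

theorem tablesE8 : weightOkFast (D := chevE8) certE8 reflTableE8 cartanPackE8 = true ∧
    centOk chevE8 239 [77, 98, 104, 109, 113, 116, 118] = true ∧
    nodeOk chevE8 239 7 [77, 98, 104, 109, 113, 116, 118] = true := by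
  refine ⟨?_, ?_, ?_⟩ <;> decide +kernel

theorem tablesF4long : weightOkFast (D := chevF4) certF4 reflTableF4 cartanPackF4 = true ∧
    centOk chevF4 47 [14, 20, 22] = true ∧ nodeOk chevF4 47 3 [14, 20, 22] = true := by
  refine ⟨?_, ?_, ?_⟩ <;> decide +kernel

theorem tablesF4short : weightOkFast (D := chevF4) certF4 reflTableF4 cartanPackF4 = true ∧
    centOk chevF4 44 [20, 22, 23] = true ∧ nodeOk chevF4 44 0 [20, 22, 23] = true := by
  refine ⟨?_, ?_, ?_⟩ <;> decide +kernel

end CfsgLib.ChevInvol
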