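import Cfsg.Agent.ChevInvol.TopSeries
import Cfsg.Agent.ChevInvol.ParabolicTorus
import Cfsg.Agent.ChevInvol.RootTables
import Cfsg.Agent.ChevInvol.RootPairs
import Cfsg.Agent.Chevalley.WeylData

/-!
# The mixed involutions of type F₄ in characteristic two
-/

set_option autoImplicit false

namespace CfsgLib.ChevInvol.F4

open Cfsg.Lie CfsgLib.Chevalley

theorem fW : GoodWeyl chevF4 := goodWeyl_of_mem (by simp)

/-- The Coxeter matrix of type F₄. -/
abbrev fM : CoxeterMatrix (Fin chevF4.rank) := CoxeterMatrix.F₄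

theorem fH : Weyl.RootGood Weyl.certF4 fM Weyl.reflTableF4 := Weyl.rootF4_good

theorem weightOk_F4 : Weyl.weightOk (D := chevF4) Weyl.certF4 = true :=
  weightOk_of_fast fH tablesF4long.1

/-- The root with index `k`. -/
def rt (k : ℕ) (h : k < 48 := by decide) : Root chevF4 := ⟨k, h⟩

/-- The simple index `k`. -/
def ix (k : ℕ) (h : k < 4 := by decide) : Fin chevF4.rank := ⟨k, h⟩

theorem rank_cases (i : Fin chevF4.rank) : i = ix 0 ∨ i = ix 1 ∨ i = ix 2 ∨ i = ix 3 := by
  have h : (i : ℕ) < 4 := i.isLt
  rcases (by omega : (i : ℕ) = 0 ∨ (i : ℕ) = 1 ∨ (i : ℕ) = 2 ∨ (i : ℕ) = 3) with h | h | h | h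
  exacts [.inl (Fin.ext h), .inr (.inl (Fin.ext h)), .inr (.inr (.inl (Fin.ext h))),
    .inr (.inr (.inr (Fin.ext h)))]

/-- The short roots. -/
def short (r : ℕ) : Bool :=
  [27, 28, 29, 33, 34, 35, 36, 37, 38, 39, 40, 44, 20, 19, 18, 14, 13, 12, 11, 10, 9, 8, 7,
    3].contains r

theorem short_reflect : ((List.range 4).all fun i => (List.range 48).all fun r =>
    short (chevF4.reflectRoot i r) == short r) = true := by decide +kernel

theorem short_rootPerm (w : fM.Group) (r : Root chevF4) :
    short (fH.rootPerm w r : ℕ) = short (r : ℕ) := by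
  have h := short_reflect
  simp only [List.all_eq_true, List.mem_range, beq_iff_eq] at h
  cases hr : short (r : ℕ)
  · simpa using rootPerm_mem_class fH (P := fun k => !short k)
      (fun i s hs => by rw [h i i.isLt s s.isLt]; exact hs) w r (by simp [hr])
  · exact rootPerm_mem_class fH (P := short)
      (fun i s hs => by rw [h i i.isLt s s.isLt]; exact hs) w r hr

/-- The only orthogonal short-long pair in `{39, 45, 40, 44, 46, 47}` is `(39, 45)`. -/
theorem pair_unique : ((List.finRange chevF4.nroots).all fun a =>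
    (List.finRange chevF4.nroots).all fun b =>
      !([39, 45, 40, 44, 46, 47].contains (a : ℕ) && [39, 45, 40, 44, 46, 47].contains (b : ℕ) &&
        short (a : ℕ) && !short (b : ℕ) &&
        decide (Weyl.rootPair (Weyl.rootWeight chevF4 b) a = 0)) ||
      (decide ((a : ℕ) = 39) && decide ((b : ℕ) = 45))) = true := by decide +kernel

variable {F : Type*} [Field F] [CharP F 2]

/-- The test that every root of `S` commutes with the root `a`. -/
def allCommute (a : ℕ) (S : ℕ → Bool) : Bool :=
  (List.range 48).all fun s => !S s || commOk chevF4 a s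

theorem commute_rootGen {a : Root chevF4} {S : ℕ → Bool} (h : allCommute a S = true) (c : F)
    {g : GL chevF4.Idx F} (hg : g ∈ rootGen fW.good F {r | S r = true}) :
    Commute (X fW.good a c) g := by
  simp only [allCommute, List.all_eq_true, List.mem_range, Bool.or_eq_true,
    Bool.not_eq_true'] at h
  have hle : rootGen fW.good F {r : Root chevF4 | S r = true} ≤
      Subgroup.centralizer {X fW.good a c} := by
    refine rootGen_le fW.good fun s hs t => ?_
    rw [Subgroup.mem_centralizer_singleton_iff]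
    exact (commute_of_commOk fW.toGoodComm
      ((h s s.isLt).resolve_left (by simp [show S s = true from hs])) c t).symm
  exact (Subgroup.mem_centralizer_singleton_iff.1 (hle hg)).symm

omit [CharP F 2] in
/-- The common part of the two centralizer computations: an element commuting with `x_a(·)` and
`x_b(·)` fixes their products. -/
theorem conj_pair {g : GL chevF4.Idx F} {a b : Root chevF4} {c d : F}
    (ha : Commute (X fW.good a c) g) (hb : Commute (X fW.good b d) g) :
    g * (X fW.good a c * X fW.good b d) * g⁻¹ = X fW.good a c * X fW.good b d := by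
  rw [← (ha.mul_left hb).eq, mul_inv_cancel_right]

/-- Coordinates of the product of two root elements. -/
noncomputable def two (a b : ℕ) (c d : F) : ℕ → F := Pi.single a c + Pi.single b d

theorem pair_eq_topEl {m : ℕ} (hm : topOk chevF4 m = true) {a b : Root chevF4}
    (ha : m ≤ (a : ℕ)) (hb : m ≤ (b : ℕ)) (c d : F) :
    X fW.good a c * X fW.good b d = topEl fW.good m (two a b c d) := by
  rw [two, ← topEl_add fW.toGoodComm hm, topEl_single _ ha, topEl_single _ hb]

omit [CharP F 2] in
theorem two_support {a b j : ℕ} {c d : F} (h : two a b c d j ≠ 0) : j = a ∨ j = b := by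
  by_contra hc
  push Not at hc
  exact h (by simp [two, hc.1, hc.2])

omit [CharP F 2] in
theorem torus_conj (i j : Fin chevF4.rank) (c d : Fˣ) (r : Root chevF4) (u : F) :
    hT F (pRoot fW i) c * hT F (pRoot fW j) d * X fW.good r u *
        (hT F (pRoot fW i) c * hT F (pRoot fW j) d)⁻¹ =
      X fW.good r (((c ^ chevF4.cartan i r : Fˣ) : F) *
        (((d ^ chevF4.cartan j r : Fˣ) : F) * u)) := by
  rw [show hT F (pRoot fW i) c * hT F (pRoot fW j) d * X fW.good r u *
      (hT F (pRoot fW i) c * hT F (pRoot fW j) d)⁻¹ = hT F (pRoot fW i) c *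
      (hT F (pRoot fW j) d * X fW.good r u * (hT F (pRoot fW j) d)⁻¹) *
      (hT F (pRoot fW i) c)⁻¹ by group, hT_pRoot_conj_X, hT_pRoot_conj_X]

omit [CharP F 2] in
theorem torus_conj_mul (i j : Fin chevF4.rank) (c d : Fˣ) (a b : Root chevF4) (u v : F) :
    hT F (pRoot fW i) c * hT F (pRoot fW j) d * (X fW.good a u * X fW.good b v) *
        (hT F (pRoot fW i) c * hT F (pRoot fW j) d)⁻¹ =
      X fW.good a (((c ^ chevF4.cartan i a : Fˣ) : F) *
          (((d ^ chevF4.cartan j a : Fˣ) : F) * u)) *
        X fW.good b (((c ^ chevF4.cartan i b : Fˣ) : F) *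
          (((d ^ chevF4.cartan j b : Fˣ) : F) * v)) := by
  rw [← torus_conj i j c d a u, ← torus_conj i j c d b v]
  group

/-- The positive roots. -/
def posF (r : ℕ) : Bool := decide (24 ≤ r)

theorem posF_of_half {r : Root chevF4} (h : half chevF4 ≤ (r : ℕ)) : posF r = true :=
  decide_eq_true h

/-- The roots of the asserted centralizer of `x₄₇(1) x₄₄(1)`. -/
def setW (r : ℕ) : Bool := posF r || decide (r = 20) || decide (r = 22)

theorem tablesW : (topOk chevF4 44 && allCommute 47 setW && allCommute 44 setW &&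
    allCommute 47 posF && allCommute 44 posF) = true := by decide +kernel

theorem le_setW {g : GL chevF4.Idx F} (hg : g ∈ chevF4.group F)
    (hgt : g * (X fW.good (rt 47) 1 * X fW.good (rt 44) 1) * g⁻¹ =
      X fW.good (rt 47) 1 * X fW.good (rt 44) 1) :
    g ∈ rootGen fW.good F {r | setW r = true} := by
  have ht := tablesW
  simp only [Bool.and_eq_true] at ht
  obtain ⟨⟨⟨⟨htop, h47⟩, h44⟩, p47⟩, p44⟩ := ht
  obtain ⟨u, hu, y, hy, w, u', hu', rfl⟩ := exists_bruhat fW fH hg
  have hUP : chevF4.posUnipotent F ≤ rootGen fW.good F {r | posF r = true} := by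
    rw [posUnipotent_eq_rootGen fW.good]
    exact rootGen_mono fW.good fun r hr => posF_of_half hr
  set v := X fW.good (rt 47) (1 : F) * X fW.good (rt 44) 1 with hv
  have hcu : ∀ z ∈ chevF4.posUnipotent F, z * v * z⁻¹ = v := fun z hz =>
    conj_pair (commute_rootGen (a := rt 47) p47 _ (hUP hz))
      (commute_rootGen (a := rt 44) p44 _ (hUP hz))
  have heq : y * nW fW fH F w * v * (y * nW fW fH F w)⁻¹ = v := by
    calc y * nW fW fH F w * v * (y * nW fW fH F w)⁻¹
        = y * nW fW fH F w * (u' * v * u'⁻¹) * (y * nW fW fH F w)⁻¹ := by rw [hcu u' hu']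
      _ = u⁻¹ * (u * y * nW fW fH F w * u' * v * (u * y * nW fW fH F w * u')⁻¹) * u⁻¹⁻¹ := by
          group
      _ = u⁻¹ * v * u⁻¹⁻¹ := by rw [hgt]
      _ = v := hcu _ (inv_mem hu)
  rw [hv, pair_eq_topEl htop (a := rt 47) (b := rt 44) (by decide) (by decide)] at heq
  have hne : ∀ j, j = 47 ∨ j = 44 → two 47 44 (1 : F) 1 j ≠ 0 := by
    rintro j (rfl | rfl) <;> simp [two]
  have himg : ∀ r : Root chevF4, ((r : ℕ) = 47 ∨ (r : ℕ) = 44) → fH.rootPerm w r = r := by
    intro r hr
    obtain ⟨-, hs⟩ := image_support fW htop (fun s => exists_conj_scale fW fH hy w s) heq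
      (r := r) (by omega) (hne _ hr)
    have hc := short_rootPerm w r
    apply Fin.ext
    rcases two_support hs with e | e <;> simp only [rt] at e <;>
      rcases hr with e' | e' <;> first
        | exact e.trans e'.symm
        | (exfalso; rw [e, e'] at hc; revert hc; decide)
  have hstab := fH.stabilizer_dominant
    (v := Weyl.rootWeight chevF4 47 + Weyl.rootWeight chevF4 44) (w := w) (by decide +kernel) (by
      rw [map_add, show Weyl.rootWeight chevF4 47 = Weyl.rootWeight chevF4 (rt 47 : ℕ) from rfl,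
        show Weyl.rootWeight chevF4 44 = Weyl.rootWeight chevF4 (rt 44 : ℕ) from rfl,
        fH.rep_rootWeight weightOk_F4, fH.rep_rootWeight weightOk_F4, himg _ (.inl rfl),
        himg _ (.inr rfl)])
  obtain ⟨k, hk, c, d, e⟩ := mem_parabolicTorus fW fH (S := setW) (i := ix 0) (j := ix 3)
    (fun r hr => by simp [setW, posF_of_half hr]) (fun k h0 h3 => by
      rcases rank_cases k with rfl | rfl | rfl | rfl
      · exact absurd rfl h0
      · decide +kernel
      · decide +kernel
      · exact absurd rfl h3)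
    hu hy hu' (w := w) (Subgroup.closure_mono (fun s hs => by
      obtain ⟨k, hk, rfl⟩ := hs
      refine ⟨k, ?_, rfl⟩
      rcases rank_cases k with rfl | rfl | rfl | rfl
      · revert hk; decide +kernel
      · exact ⟨by decide, by decide⟩
      · exact ⟨by decide, by decide⟩
      · revert hk; decide +kernel) hstab)
  rw [e] at hgt ⊢
  set τ := hT F (pRoot fW (ix 0)) c * hT F (pRoot fW (ix 3)) d with hτ
  have hτv : τ * v * τ⁻¹ = v := by
    calc τ * v * τ⁻¹ = k⁻¹ * (k * τ * v * (k * τ)⁻¹) * k⁻¹⁻¹ := by group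
      _ = k⁻¹ * v * k⁻¹⁻¹ := by rw [hgt]
      _ = v := conj_pair (commute_rootGen (a := rt 47) h47 _ (inv_mem hk))
          (commute_rootGen (a := rt 44) h44 _ (inv_mem hk))
  rw [hτ, hv, torus_conj_mul, show chevF4.cartan (ix 0) (rt 47) = 0 by decide +kernel,
    show chevF4.cartan (ix 3) (rt 47) = 1 by decide +kernel,
    show chevF4.cartan (ix 0) (rt 44) = 1 by decide +kernel,
    show chevF4.cartan (ix 3) (rt 44) = 0 by decide +kernel,
    pair_eq_topEl htop (a := rt 47) (b := rt 44) (by decide) (by decide),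
    pair_eq_topEl htop (a := rt 47) (b := rt 44) (by decide) (by decide)] at hτv
  have e1 := topEl_injective fW.toGoodUni (m := 44) (by decide) (by decide) hτv
    (j := 47) (by omega) (by decide)
  have e2 := topEl_injective fW.toGoodUni (m := 44) (by decide) (by decide) hτv
    (j := 44) (by omega) (by decide)
  simp [two, rt] at e1 e2
  rw [e1, e2] at hτ
  rw [hτ, hT_one, hT_one, one_mul, mul_one]
  exact hk

/-- The roots `40, 44, 46, 47`. -/
def setN (r : ℕ) : Bool := [40, 44, 46, 47].contains r

/-- The radical roots of the parabolic subgroup of `p₁, p₄`. -/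
def setR (r : ℕ) : Bool := posF r && !([33, 24].contains r)

/-- The radical roots other than `27, 34, 25, 26`. -/
def setR4 (r : ℕ) : Bool := setR r && !([27, 34, 25, 26].contains r)

/-- The roots `± p₁, ± p₄`. -/
def setL (r : ℕ) : Bool := [33, 14, 24, 23].contains r

/-- The roots of the parabolic subgroup of `p₁, p₄`. -/
def setK (r : ℕ) : Bool := posF r || [14, 23].contains r

/-- The roots of the asserted centralizer of `x₃₉(1) x₄₅(1)`. -/
def setV (r : ℕ) : Bool := setR4 r || setL r

theorem tablesV : (topOk chevF4 39 && allCommute 39 setV && allCommute 45 setV &&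
    ((List.range 48).all fun a => !posF a ||
      (oddTermsIn chevF4 a 39 setN && oddTermsIn chevF4 a 45 setN && closOk chevF4 a setN)) &&
    ((List.range 48).all fun a => !setL a || closOk chevF4 a setR) &&
    closOk chevF4 27 (fun r => setR r && !([27].contains r)) &&
    closOk chevF4 34 (fun r => setR r && !([27, 34].contains r)) &&
    closOk chevF4 25 (fun r => setR r && !([27, 34, 25].contains r)) &&
    closOk chevF4 26 setR4) = true := by decide +kernel

theorem topEl_setN {g : GL chevF4.Idx F} (hg : g ∈ rootGen fW.good F {r | setN r = true}) :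
    ∃ c : ℕ → F, (∀ j, c j ≠ 0 → setN j = true) ∧ topEl fW.good 39 c = g := by
  have ht := tablesV
  simp only [Bool.and_eq_true] at ht
  have htop := ht.1.1.1.1.1.1.1.1
  induction hg using Subgroup.closure_induction with
  | mem z hz =>
    obtain ⟨r, hr, t, rfl⟩ := hz
    refine ⟨Pi.single (r : ℕ) t, fun j hj => ?_, topEl_single _ ?_ t⟩
    · by_cases e : j = (r : ℕ)
      · subst e; exact hr
      · exact absurd (Pi.single_eq_of_ne (M := fun _ => F) e t) hj
    · have h : setN r = true := hr
      simp [setN] at h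
      omega
  | one => exact ⟨0, fun j hj => absurd rfl hj, topEl_zero _ _⟩
  | mul x y _ _ hx hy =>
    obtain ⟨a, ha, rfl⟩ := hx
    obtain ⟨b, hb, rfl⟩ := hy
    refine ⟨a + b, fun j hj => ?_, (topEl_add fW.toGoodComm htop a b).symm⟩
    by_cases h0 : a j = 0
    · exact hb j fun h1 => hj (by simp [h0, h1])
    · exact ha j h0
  | inv x _ hx =>
    obtain ⟨a, ha, rfl⟩ := hx
    refine ⟨a, ha, eq_inv_of_mul_eq_one_left ?_⟩
    rw [topEl_add fW.toGoodComm htop, show a + a = 0 from funext fun j => CharTwo.add_self_eq_zero _,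
      topEl_zero]

/-- Conjugates of `x₃₉(1) x₄₅(1)` under `U`. -/
theorem conj_v {u : GL chevF4.Idx F} (hu : u ∈ chevF4.posUnipotent F) :
    ∃ c : ℕ → F, (∀ j, c j ≠ 0 → j = 39 ∨ j = 45 ∨ setN j = true) ∧ c 39 = 1 ∧ c 45 = 1 ∧
      u * (X fW.good (rt 39) 1 * X fW.good (rt 45) 1) * u⁻¹ = topEl fW.good 39 c := by
  have ht := tablesV
  simp only [Bool.and_eq_true] at ht
  have htop := ht.1.1.1.1.1.1.1.1
  have hpos := ht.1.1.1.1.1.2
  simp only [List.all_eq_true, List.mem_range, Bool.or_eq_true, Bool.not_eq_true',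
    Bool.and_eq_true] at hpos
  set x := X fW.good (rt 39) (1 : F) with hx
  set z := X fW.good (rt 45) (1 : F) with hz
  set K := rootGen fW.good F {r : Root chevF4 | setN r = true} with hK
  have hnorm : ∀ a : Root chevF4, posF a = true → ∀ t : F,
      X fW.good a t ∈ Subgroup.normalizer (K : Set (GL chevF4.Idx F)) := fun a ha t =>
    X_mem_normalizer fW.toGoodComm
      ((hpos a a.isLt).resolve_left (by simp [ha])).2 t
  have hUN : chevF4.posUnipotent F ≤ Subgroup.normalizer (K : Set (GL chevF4.Idx F)) := by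
    rw [posUnipotent_eq_rootGen fW.good]
    exact rootGen_le fW.good fun a ha t => hnorm a (posF_of_half ha) t
  have hmem : (x * z)⁻¹ * (u * (x * z) * u⁻¹) ∈ K := by
    rw [posUnipotent_eq_rootGen fW.good] at hu
    induction hu using Subgroup.closure_induction with
    | mem s hs =>
      obtain ⟨a, ha, t, rfl⟩ := hs
      obtain ⟨⟨h39, h45⟩, -⟩ := (hpos a a.isLt).resolve_left (by simp [posF_of_half ha])
      have n39 := inv_conj_mem fW.toGoodComm (a := a) (s := rt 39) h39 (-t) (1 : F)
      have n45 := inv_conj_mem fW.toGoodComm (a := a) (s := rt 45) h45 (-t) (1 : F)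
      rw [← X_inv, inv_inv, ← hx] at n39
      rw [← X_inv, inv_inv, ← hz] at n45
      have h1 := ((Subgroup.mem_normalizer_iff.1 (inv_mem (hnorm (rt 45) (by decide) 1))) _).1 n39
      have := mul_mem h1 n45
      rw [← hz] at this
      convert this using 1
      group
    | one => simp
    | mul a b ha hb iha ihb =>
      change a ∈ rootGen fW.good F (posSet chevF4) at ha
      rw [← posUnipotent_eq_rootGen fW.good] at ha
      have h1 := ((Subgroup.mem_normalizer_iff.1 (hUN ha)) _).1 ihb
      have := mul_mem iha h1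
      convert this using 1
      group
    | inv a ha iha =>
      change a ∈ rootGen fW.good F (posSet chevF4) at ha
      rw [← posUnipotent_eq_rootGen fW.good] at ha
      have h1 := ((Subgroup.mem_normalizer_iff.1 (inv_mem (hUN ha))) _).1 (inv_mem iha)
      convert h1 using 1
      group
  obtain ⟨c, hc, hce⟩ := topEl_setN hmem
  refine ⟨two 39 45 1 1 + c, fun j hj => ?_, ?_, ?_, ?_⟩
  · by_cases h0 : c j = 0
    · rw [Pi.add_apply, h0, add_zero] at hj
      rcases two_support hj with e | e
      exacts [.inl e, .inr (.inl e)]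
    · exact .inr (.inr (hc j h0))
  · have : c 39 = 0 := by
      by_contra h0
      exact absurd (hc 39 h0) (by decide)
    simp [two, this]
  · have : c 45 = 0 := by
      by_contra h0
      exact absurd (hc 45 h0) (by decide)
    simp [two, this]
  · rw [← topEl_add fW.toGoodComm htop, hce,
      show two 39 45 (1 : F) 1 = two (rt 39 : ℕ) (rt 45 : ℕ) 1 1 from rfl,
      ← pair_eq_topEl htop (a := rt 39) (b := rt 45) (by decide) (by decide), ← hx, ← hz]
    group

/-- Conjugation with a single commutator term. -/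
theorem conj_single {a s k : Root chevF4} {ε : ℤ} (hne : s ≠ a) (hne' : s ≠ a.rev)
    (hL : chevF4.commTerms a s = [((k : ℕ), ε, 1, 1)]) (hε : ε = 1 ∨ ε = -1)
    (hak : commOk chevF4 a k = true) (t u : F) :
    X fW.good a t * X fW.good s u * (X fW.good a t)⁻¹ = X fW.good s u * X fW.good k (t * u) := by
  have h := X_comm fW.toGoodComm a s hne hne' (R := F) t u
  have hW : commRhs fW.good a s t u = X fW.good k (t * u) := by
    rw [commRhs, hL]
    simp only [List.map_cons, List.map_nil, wordGL, List.prod_cons, List.prod_nil, mul_one,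
      dif_pos k.isLt, pow_one]
    rcases hε with rfl | rfl <;> simp [CharTwo.neg_eq]
  rw [hW] at h
  have hk : Commute (X fW.good a t) (X fW.good k (t * u)) :=
    commute_of_commOk fW.toGoodComm hak t (t * u)
  have hinv : (X fW.good k (t * u))⁻¹ = X fW.good k (t * u) := by rw [X_inv, CharTwo.neg_eq]
  have h' : X fW.good a t * X fW.good s u = X fW.good s u * X fW.good a t * X fW.good k (t * u) := by
    conv_rhs => rw [h, mul_assoc, X_mul, CharTwo.add_self_eq_zero, X_zero, mul_one]
  rw [h', mul_assoc (X fW.good s u), hk.eq, ← mul_assoc, mul_inv_cancel_right]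

theorem tablesConj : (commOk chevF4 27 40 && commOk chevF4 34 44 && commOk chevF4 25 46 &&
    commOk chevF4 26 47 && commOk chevF4 27 44 && commOk chevF4 27 45 && commOk chevF4 27 46 &&
    commOk chevF4 27 47 && commOk chevF4 34 45 && commOk chevF4 34 46 && commOk chevF4 34 47 &&
    commOk chevF4 25 39 && commOk chevF4 25 47 && commOk chevF4 26 39) = true := by
  decide +kernel

theorem le_setV {g : GL chevF4.Idx F} (hg : g ∈ chevF4.group F)
    (hgt : g * (X fW.good (rt 39) 1 * X fW.good (rt 45) 1) * g⁻¹ =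
      X fW.good (rt 39) 1 * X fW.good (rt 45) 1) :
    g ∈ rootGen fW.good F {r | setV r = true} := by
  have ht := tablesV
  simp only [Bool.and_eq_true] at ht
  obtain ⟨⟨⟨⟨⟨⟨⟨⟨htop, c39⟩, c45⟩, -⟩, hL⟩, h27⟩, h34⟩, h25⟩, h26⟩ := ht
  have hc := tablesConj
  simp only [Bool.and_eq_true] at hc
  obtain ⟨⟨⟨⟨⟨⟨⟨⟨⟨⟨⟨⟨⟨q1, q2⟩, q3⟩, q4⟩, q5⟩, q6⟩, q7⟩, q8⟩, q9⟩, q10⟩, q11⟩, q12⟩, q13⟩,
    q14⟩ := hc
  obtain ⟨u, hu, y, hy, w, u', hu', rfl⟩ := exists_bruhat fW fH hg
  set v := X fW.good (rt 39) (1 : F) * X fW.good (rt 45) 1 with hv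
  obtain ⟨c, hcs, hc39, hc45, hce⟩ := conj_v hu'
  obtain ⟨c', hcs', -, -, hce'⟩ := conj_v (inv_mem hu)
  rw [← hv] at hce hce'
  have heq : y * nW fW fH F w * topEl fW.good 39 c * (y * nW fW fH F w)⁻¹ =
      topEl fW.good 39 c' := by
    rw [← hce, ← hce', ← congrArg (fun s => u⁻¹ * s * u⁻¹⁻¹) hgt]
    group
  have key : ∀ r : Root chevF4, 39 ≤ (r : ℕ) → c r = 1 → short (fH.rootPerm w r : ℕ) = short r ∧
      ((fH.rootPerm w r : ℕ) = 39 ∨ (fH.rootPerm w r : ℕ) = 45 ∨
        setN (fH.rootPerm w r : ℕ) = true) := fun r hr h1 =>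
    ⟨short_rootPerm w r, hcs' _ (image_support fW htop (fun s => exists_conj_scale fW fH hy w s)
      heq hr (by rw [h1]; exact one_ne_zero)).2⟩
  obtain ⟨ks, hp⟩ := key (rt 39) le_rfl hc39
  obtain ⟨ks', hp'⟩ := key (rt 45) (by decide) hc45
  have hpair : Weyl.rootPair (Weyl.rootWeight chevF4 (fH.rootPerm w (rt 45) : ℕ))
      (fH.rootPerm w (rt 39)) = 0 := by
    rw [← fH.rep_rootWeight weightOk_F4, fH.pair_rep]
    decide +kernel
  have himg : fH.rootPerm w (rt 39) = rt 39 ∧ fH.rootPerm w (rt 45) = rt 45 := by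
    have hall : ∀ a b : Root chevF4,
        [39, 45, 40, 44, 46, 47].contains (a : ℕ) = true →
        [39, 45, 40, 44, 46, 47].contains (b : ℕ) = true →
        short a = true → short b = false → Weyl.rootPair (Weyl.rootWeight chevF4 b) a = 0 →
        a = rt 39 ∧ b = rt 45 := by
      intro a b ha hb hsa hsb hp0
      have h := pair_unique
      simp only [List.all_eq_true, List.mem_finRange, forall_const, Bool.or_eq_true,
        Bool.not_eq_true', Bool.and_eq_true, decide_eq_true_eq] at h
      rcases h a b with h | ⟨h1, h2⟩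
      · simp only [Bool.and_eq_false_iff, decide_eq_false_iff_not] at h
        rcases h with (((h | h) | h) | h) | h
        · rw [ha] at h; simp at h
        · rw [hb] at h; simp at h
        · rw [hsa] at h; simp at h
        · simp [hsb] at h
        · exact absurd hp0 h
      · exact ⟨Fin.ext h1, Fin.ext h2⟩
    refine hall _ _ ?_ ?_ (ks.trans (by decide)) (ks'.trans (by decide)) hpair
    · rcases hp with e | e | e
      · rw [e]; decide
      · rw [e]; decide
      · simp [setN] at e; simp; omega
    · rcases hp' with e | e | e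
      · rw [e]; decide
      · rw [e]; decide
      · simp [setN] at e; simp; omega
  have hstab := fH.stabilizer_dominant
    (v := (3 : ℤ) • Weyl.rootWeight chevF4 39 + (2 : ℤ) • Weyl.rootWeight chevF4 45) (w := w)
    (by decide +kernel) (by
      rw [map_add, map_zsmul, map_zsmul,
        show Weyl.rootWeight chevF4 39 = Weyl.rootWeight chevF4 (rt 39 : ℕ) from rfl,
        show Weyl.rootWeight chevF4 45 = Weyl.rootWeight chevF4 (rt 45 : ℕ) from rfl,
        fH.rep_rootWeight weightOk_F4, fH.rep_rootWeight weightOk_F4, himg.1, himg.2])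
  obtain ⟨k, hk, cc, dd, e⟩ := mem_parabolicTorus fW fH (S := setK) (i := ix 1) (j := ix 2)
    (fun r hr => by simp [setK, posF_of_half hr]) (fun k h0 h3 => by
      rcases rank_cases k with rfl | rfl | rfl | rfl
      · decide +kernel
      · exact absurd rfl h0
      · exact absurd rfl h3
      · decide +kernel)
    hu hy hu' (w := w) (Subgroup.closure_mono (fun s hs => by
      obtain ⟨k, hk, rfl⟩ := hs
      refine ⟨k, ?_, rfl⟩
      rcases rank_cases k with rfl | rfl | rfl | rfl
      · exact ⟨by decide, by decide⟩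
      · revert hk; decide +kernel
      · revert hk; decide +kernel
      · exact ⟨by decide, by decide⟩) hstab)
  rw [e] at hgt ⊢
  -- split `k`
  simp only [List.all_eq_true, List.mem_range, Bool.or_eq_true, Bool.not_eq_true'] at hL
  have hLN : rootGen fW.good F {r : Root chevF4 | setL r = true} ≤
      Subgroup.normalizer
        (rootGen fW.good F {r | setR r = true} : Set (GL chevF4.Idx F)) :=
    rootGen_le fW.good fun a ha t => X_mem_normalizer fW.toGoodComm
      ((hL a a.isLt).resolve_left (by simp [show setL a = true from ha])) t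
  have hKle : rootGen fW.good F {r : Root chevF4 | setK r = true} ≤
      rootGen fW.good F {r | setR r = true} ⊔ rootGen fW.good F {r | setL r = true} := by
    refine rootGen_le fW.good fun r hr t => ?_
    by_cases hl : setL r = true
    · exact Subgroup.mem_sup_right (X_mem_rootGen fW.good (S := {r | setL r = true}) hl t)
    · refine Subgroup.mem_sup_left (X_mem_rootGen fW.good (S := {r | setR r = true}) ?_ t)
      have h : setK r = true := hr
      have h48 : (r : ℕ) < 48 := r.isLt
      simp [setK, setL, setR, posF] at h hl ⊢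
      omega
  have hk' := hKle hk
  rw [← SetLike.mem_coe, Subgroup.coe_mul_of_right_le_normalizer_left _ _ hLN] at hk'
  obtain ⟨r, hr, l, hl, rfl⟩ := hk'
  obtain ⟨a, r1, hr1, rfl⟩ := mem_rootGen_cons fW.toGoodComm (a := rt 27) h27 (T' := setR)
    (fun s hs => by
      by_cases e : (s : ℕ) = 27
      · exact .inl (Fin.ext e)
      · exact .inr (by simp [hs, e])) hr
  obtain ⟨b, r2, hr2, rfl⟩ := mem_rootGen_cons fW.toGoodComm (a := rt 34) h34
    (T' := fun r => setR r && !([27].contains r)) (fun s hs => by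
      by_cases e : (s : ℕ) = 34
      · exact .inl (Fin.ext e)
      · simp at hs; exact .inr (by simp [hs, e])) hr1
  obtain ⟨cs, r3, hr3, rfl⟩ := mem_rootGen_cons fW.toGoodComm (a := rt 25) h25
    (T' := fun r => setR r && !([27, 34].contains r)) (fun s hs => by
      by_cases e : (s : ℕ) = 25
      · exact .inl (Fin.ext e)
      · simp at hs; exact .inr (by simp [hs, e])) hr2
  obtain ⟨ds, q, hq, rfl⟩ := mem_rootGen_cons fW.toGoodComm (a := rt 26) h26
    (T' := fun r => setR r && !([27, 34, 25].contains r)) (fun s hs => by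
      by_cases e : (s : ℕ) = 26
      · exact .inl (Fin.ext e)
      · simp at hs; exact .inr (by simp [setR4, hs, e])) hr3
  have hql : q * l ∈ rootGen fW.good F {r : Root chevF4 | setV r = true} :=
    mul_mem (rootGen_mono fW.good (fun s (hs : setR4 s = true) => by simp [setV, hs]) hq)
      (rootGen_mono fW.good (fun s (hs : setL s = true) => by simp [setV, hs]) hl)
  set τ := hT F (pRoot fW (ix 1)) cc * hT F (pRoot fW (ix 2)) dd with hτ
  set α : F := ((cc ^ (-1 : ℤ) : Fˣ) : F) * (((dd ^ (1 : ℤ) : Fˣ) : F) * 1) with hα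
  set β : F := ((cc ^ (2 : ℤ) : Fˣ) : F) * (((dd ^ (-1 : ℤ) : Fˣ) : F) * 1) with hβ
  have hτv : τ * v * τ⁻¹ = X fW.good (rt 39) α * X fW.good (rt 45) β := by
    rw [hτ, hv, torus_conj_mul, show chevF4.cartan (ix 1) (rt 39) = -1 by decide +kernel,
      show chevF4.cartan (ix 2) (rt 39) = 1 by decide +kernel,
      show chevF4.cartan (ix 1) (rt 45) = 2 by decide +kernel,
      show chevF4.cartan (ix 2) (rt 45) = -1 by decide +kernel]
  -- the conjugate by the four remaining root elements
  set P := X fW.good (rt 27) a * X fW.good (rt 34) b * X fW.good (rt 25) cs *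
    X fW.good (rt 26) ds with hP
  have hgP : X fW.good (rt 27) a * (X fW.good (rt 34) b * (X fW.good (rt 25) cs *
      (X fW.good (rt 26) ds * q))) * l * τ = P * (q * l) * τ := by rw [hP]; group
  rw [hgP] at hgt ⊢
  have hPv : P * (X fW.good (rt 39) α * X fW.good (rt 45) β) * P⁻¹ = v := by
    calc P * (X fW.good (rt 39) α * X fW.good (rt 45) β) * P⁻¹
        = P * ((q * l) * (X fW.good (rt 39) α * X fW.good (rt 45) β) * (q * l)⁻¹) * P⁻¹ := by
          rw [conj_pair (commute_rootGen (a := rt 39) c39 α hql)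
            (commute_rootGen (a := rt 45) c45 β hql)]
      _ = (P * (q * l) * τ) * v * (P * (q * l) * τ)⁻¹ := by rw [← hτv]; group
      _ = v := hgt
  let L : List (Root chevF4 × F) := [(rt 39, α), (rt 40, a * α), (rt 44, b * α), (rt 45, β),
    (rt 46, cs * β), (rt 47, ds * β)]
  have hcm : ∀ {i j : ℕ} {hi : i < 48} {hj : j < 48}, commOk chevF4 i j = true → ∀ t z : F,
      X fW.good (rt i hi) t * X fW.good (rt j hj) z * (X fW.good (rt i hi) t)⁻¹ =
        X fW.good (rt j hj) z := fun h t z => by
    rw [(commute_of_commOk fW.toGoodComm h t z).eq, mul_inv_cancel_right]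
  have dist : ∀ z g g' : GL chevF4.Idx F, z * (g * g') * z⁻¹ = z * g * z⁻¹ * (z * g' * z⁻¹) :=
    fun z g g' => by group
  have hP4 : ∀ z : GL chevF4.Idx F, P * z * P⁻¹ =
      X fW.good (rt 27) a * (X fW.good (rt 34) b * (X fW.good (rt 25) cs *
        (X fW.good (rt 26) ds * z * (X fW.good (rt 26) ds)⁻¹) *
        (X fW.good (rt 25) cs)⁻¹) * (X fW.good (rt 34) b)⁻¹) * (X fW.good (rt 27) a)⁻¹ :=
    fun z => by rw [hP]; group
  have e39 : P * X fW.good (rt 39) α * P⁻¹ =
      X fW.good (rt 39) α * X fW.good (rt 40) (a * α) * X fW.good (rt 44) (b * α) := by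
    rw [hP4, hcm q14, hcm q12, conj_single (a := rt 34) (s := rt 39) (k := rt 44) (ε := 1)
      (by decide) (by decide) (by decide +kernel) (.inl rfl) q2, dist,
      conj_single (a := rt 27) (s := rt 39) (k := rt 40) (ε := 1)
      (by decide) (by decide) (by decide +kernel) (.inl rfl) q1, hcm q5]
  have e45 : P * X fW.good (rt 45) β * P⁻¹ =
      X fW.good (rt 45) β * X fW.good (rt 46) (cs * β) * X fW.good (rt 47) (ds * β) := by
    rw [hP4, conj_single (a := rt 26) (s := rt 45) (k := rt 47) (ε := 1)
      (by decide) (by decide) (by decide +kernel) (.inl rfl) q4,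
      dist (X fW.good (rt 25) cs), conj_single (a := rt 25) (s := rt 45) (k := rt 46) (ε := 1)
      (by decide) (by decide) (by decide +kernel) (.inl rfl) q3, hcm q13,
      dist (X fW.good (rt 34) b), dist (X fW.good (rt 34) b), hcm q9, hcm q10, hcm q11,
      dist (X fW.good (rt 27) a), dist (X fW.good (rt 27) a), hcm q6, hcm q7, hcm q8]
  have hLge : ∀ p ∈ L, p.2 = 0 ∨ 39 ≤ (p.1 : ℕ) := fun p hp => .inr (by
    simp only [L, List.mem_cons, List.not_mem_nil, or_false] at hp
    rcases hp with rfl | rfl | rfl | rfl | rfl | rfl <;> simp [rt])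
  have hfin : topEl fW.good 39 (coefL L) = topEl fW.good 39 (two 39 45 (1 : F) 1) := by
    rw [← prodX_eq_topEl fW.toGoodComm htop L hLge,
      show two 39 45 (1 : F) 1 = two (rt 39 : ℕ) (rt 45 : ℕ) 1 1 from rfl,
      ← pair_eq_topEl htop (a := rt 39) (b := rt 45) (by decide) (by decide), ← hv, ← hPv, dist,
      e39, e45]
    simp [prodX, L, mul_assoc]
  have hnd : (L.map Prod.fst).Nodup := by
    show [rt 39, rt 40, rt 44, rt 45, rt 46, rt 47].Nodup
    decide
  have hval : ∀ p ∈ L, p.2 = two 39 45 (1 : F) 1 (p.1 : ℕ) := fun p hp => by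
    rw [← coefL_apply L hnd p hp]
    refine topEl_injective fW.toGoodUni (m := 39) (by decide) (by decide) hfin ?_ p.1.isLt
    simp only [L, List.mem_cons, List.not_mem_nil, or_false] at hp
    rcases hp with rfl | rfl | rfl | rfl | rfl | rfl <;> simp [rt]
  simp only [L, List.mem_cons, List.not_mem_nil, or_false, forall_eq_or_imp, forall_eq] at hval
  obtain ⟨hA, h40, h44, hB, h46, h47⟩ := hval
  simp [two, rt] at hA h40 h44 hB h46 h47
  rw [hA] at h40 h44
  rw [hB] at h46 h47
  simp at h40 h44 h46 h47
  have hcd : cc = 1 ∧ dd = 1 := by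
    have e1 : dd = cc := by
      have : (cc ^ (-1 : ℤ) * dd ^ (1 : ℤ) : Fˣ) = 1 := Units.ext (by
        rw [Units.val_mul, Units.val_one, ← hA, hα, mul_one])
      rwa [zpow_one, zpow_neg_one, inv_mul_eq_one, eq_comm] at this
    have e2 : (cc ^ (2 : ℤ) * dd ^ (-1 : ℤ) : Fˣ) = 1 := Units.ext (by
      rw [Units.val_mul, Units.val_one, ← hB, hβ, mul_one])
    rw [e1, ← zpow_add] at e2
    norm_num at e2
    exact ⟨e2, e1.trans e2⟩
  rw [hτ, hcd.1, hcd.2, hT_one, hT_one, hP, h40, h44, h46, h47]
  simpa [X_zero] using hql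

end CfsgLib.ChevInvol.F4

namespace CfsgLib.ChevInvol.F4

open Cfsg.Lie CfsgLib.Chevalley

variable {F : Type*} [Field F] [CharP F 2]

theorem centralizer_w : chevF4.group F ⊓
    Subgroup.centralizer {X fW.good (rt 47) (1 : F) * X fW.good (rt 44) 1} =
      rootGen fW.good F {r | setW r = true} := by
  have ht := tablesW
  simp only [Bool.and_eq_true] at ht
  refine le_antisymm (fun g hg => le_setW hg.1 ?_) (fun g hg => ⟨?_, ?_⟩)
  · rw [Subgroup.mem_centralizer_singleton_iff.1 hg.2, mul_inv_cancel_right]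
  · exact rootGen_le fW.good (fun r _ t => X_mem_group _ r t) hg
  · exact Subgroup.mem_centralizer_singleton_iff.2
      ((commute_rootGen (a := rt 47) ht.1.1.1.2 (1 : F) hg).mul_left
        (commute_rootGen (a := rt 44) ht.1.1.2 (1 : F) hg)).eq.symm

theorem centralizer_v : chevF4.group F ⊓
    Subgroup.centralizer {X fW.good (rt 39) (1 : F) * X fW.good (rt 45) 1} =
      rootGen fW.good F {r | setV r = true} := by
  have ht := tablesV
  simp only [Bool.and_eq_true] at ht
  refine le_antisymm (fun g hg => le_setV hg.1 ?_) (fun g hg => ⟨?_, ?_⟩)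
  · rw [Subgroup.mem_centralizer_singleton_iff.1 hg.2, mul_inv_cancel_right]
  · exact rootGen_le fW.good (fun r _ t => X_mem_group _ r t) hg
  · exact Subgroup.mem_centralizer_singleton_iff.2
      ((commute_rootGen (a := rt 39) ht.1.1.1.1.1.1.1.2 (1 : F) hg).mul_left
        (commute_rootGen (a := rt 45) ht.1.1.1.1.1.1.2 (1 : F) hg)).eq.symm

omit [CharP F 2] in
theorem rootSubgroup_le_rootGen {S : ℕ → Bool} {k : ℕ} (hk : k < 48) (hS : S k = true) :
    chevF4.rootSubgroup F k ≤ rootGen fW.good F {r | S r = true} := by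
  intro g hg
  obtain ⟨t, rfl⟩ := (mem_rootSubgroup_iff fW.good (r := rt k hk)).1 hg
  exact X_mem_rootGen fW.good (S := {r | S r = true}) hS t

omit [CharP F 2] in
theorem setW_eq : rootGen fW.good F {r | setW r = true} = chevF4.posUnipotent F ⊔
    chevF4.rootSubgroup F 20 ⊔ chevF4.rootSubgroup F 22 := by
  refine le_antisymm (rootGen_le fW.good fun r hr t => ?_) (sup_le (sup_le ?_ ?_) ?_)
  · by_cases h24 : 24 ≤ (r : ℕ)
    · exact Subgroup.mem_sup_left (Subgroup.mem_sup_left (Chevalley.X_mem_pos fW.good h24 t))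
    · have h : setW r = true := hr
      simp [setW, posF] at h
      have hrt := X_mem_rootSubgroup fW.good r t
      rcases (by omega : (r : ℕ) = 20 ∨ (r : ℕ) = 22) with e | e <;> rw [e] at hrt
      · exact Subgroup.mem_sup_left (Subgroup.mem_sup_right hrt)
      · exact Subgroup.mem_sup_right hrt
  · rw [posUnipotent_eq_rootGen fW.good]
    refine rootGen_mono fW.good fun r hr => ?_
    show setW r = true
    simp [setW, posF_of_half (show half chevF4 ≤ (r : ℕ) from hr)]
  · exact rootSubgroup_le_rootGen (by omega) (by decide)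
  · exact rootSubgroup_le_rootGen (by omega) (by decide)

omit [CharP F 2] in
theorem setV_eq : rootGen fW.good F {r | setV r = true} = chevF4.rootSubgroup F 33 ⊔
    chevF4.rootSubgroup F 14 ⊔ chevF4.rootSubgroup F 24 ⊔ chevF4.rootSubgroup F 23 ⊔
      Subgroup.closure {g : GL chevF4.Idx F | ∃ (r : ℕ) (c : F), chevF4.IsPosRoot r ∧
        r ∉ [27, 25, 34, 26] ∧ (g : Matrix chevF4.Idx chevF4.Idx F) = chevF4.x F r c} := by
  refine le_antisymm (rootGen_le fW.good fun r hr t => ?_)
    (sup_le (sup_le (sup_le (sup_le ?_ ?_) ?_) ?_) ((Subgroup.closure_le _).2 ?_))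
  · by_cases h24 : 24 ≤ (r : ℕ) ∧ (r : ℕ) ∉ [27, 25, 34, 26]
    · refine Subgroup.mem_sup_right (Subgroup.subset_closure ⟨r, t, ?_, h24.2, ?_⟩)
      · exact fW.good.isPosRoot_iff.2 ⟨h24.1, r.isLt⟩
      · exact (coe_eq_x_iff fW.good r.isLt).2 rfl
    · have h : setV r = true := hr
      simp [setV, setR4, setR, setL, posF] at h h24
      have hrt := X_mem_rootSubgroup fW.good r t
      rcases (by omega : (r : ℕ) = 14 ∨ (r : ℕ) = 23) with e | e <;> rw [e] at hrt
      · exact Subgroup.mem_sup_left (Subgroup.mem_sup_left (Subgroup.mem_sup_left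
          (Subgroup.mem_sup_right hrt)))
      · exact Subgroup.mem_sup_left (Subgroup.mem_sup_right hrt)
  · exact rootSubgroup_le_rootGen (by omega) (by decide)
  · exact rootSubgroup_le_rootGen (by omega) (by decide)
  · exact rootSubgroup_le_rootGen (by omega) (by decide)
  · exact rootSubgroup_le_rootGen (by omega) (by decide)
  · rintro g ⟨r, c, hpos, hne, hg⟩
    obtain ⟨h24, h48⟩ := fW.good.isPosRoot_iff.1 hpos
    rw [(coe_eq_x_iff fW.good h48).1 hg]
    refine X_mem_rootGen fW.good (S := {r | setV r = true}) ?_ c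
    have h : 24 ≤ r := h24
    show setV r = true
    simp [setV, setR4, setR, setL, posF] at hne ⊢
    omega

end CfsgLib.ChevInvol.F4
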