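import Cfsg.Agent.ChevInvol.G2Classes
import Cfsg.Agent.ChevInvol.RootCentralizer

/-!
# Centralizers of the involutions of type G₂ in characteristic two
-/

set_option autoImplicit false

namespace CfsgLib.ChevInvol.G2

open Cfsg.Lie CfsgLib.Chevalley

/-- The Coxeter matrix of the root action of type G₂. -/
abbrev gM : CoxeterMatrix (Fin chevG2.rank) := CoxeterMatrix.G₂

theorem gH : Weyl.RootGood Weyl.certG2 gM Weyl.reflTableG2 := Weyl.rootG2_good

theorem weightOk_G2 : Weyl.weightOk (D := chevG2) Weyl.certG2 = true := by decide +kernel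

theorem centOk_G2 : centOk chevG2 11 [4] = true := by decide +kernel

/-- The index of the short simple root. -/
def i0 : Fin chevG2.rank := ⟨0, by decide⟩

/-- The index of the long simple root. -/
def i1 : Fin chevG2.rank := ⟨1, by decide⟩

theorem rank_cases (i : Fin chevG2.rank) : i = i0 ∨ i = i1 := by
  have h : (i : ℕ) < 2 := i.isLt
  rcases (by omega : (i : ℕ) = 0 ∨ (i : ℕ) = 1) with h | h
  exacts [.inl (Fin.ext h), .inr (Fin.ext h)]

theorem nodeOk_G2 : decide (chevG2.cartan i1 11 = 1) && decide (chevG2.neg (chevG2.simple i0) = 4) &&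
    decide (chevG2.cartan i1 9 ≠ 1) && decide (chevG2.cartan i0 9 ≠ 0) = true := by decide +kernel

variable {F : Type*} [Field F] [CharP F 2]

theorem centralizer_x11 :
    chevG2.group F ⊓ Subgroup.centralizer {x 11 (1 : F)} =
      chevG2.posUnipotent F ⊔ chevG2.rootSubgroup F 4 := by
  have := centralizer_root (F := F) gW gH weightOk_G2 (a := (11 : Fin 12)) (L := [4]) centOk_G2
    (by decide +kernel) i1 (by decide +kernel) (fun i hi => ?_)
  swap
  · rcases rank_cases i with rfl | rfl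
    · decide +kernel
    · exact absurd rfl hi
  refine this.trans ?_
  rw [radLevi, ChevalleyDatum.rootSubgroup]
  congr 2
  ext g
  simp

/-- The dominant root of the orbit of a short or long root is unique. -/
theorem nine_eq {w : gM.Group} {r : Root chevG2} (hr : gH.rootPerm w (9 : Fin 12) = r)
    (h9 : 9 ≤ (r : ℕ)) : r = (9 : Fin 12) := by
  have key : ∀ (v : gM.Group), gH.rootPerm v (9 : Fin 12) = ((11 : Fin 12) : Root chevG2) → False := by
    intro v hv
    have e := gH.rep_rootWeight weightOk_G2 v (9 : Fin 12)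
    rw [hv] at e
    have hd := gH.dominant_unique (v := Weyl.rootWeight chevG2 9) (w := v) (by decide +kernel) ?_
    · have := congrFun (e.symm.trans hd) (0 : Fin 2)
      revert this
      decide +kernel
    · intro k
      rw [show Weyl.rootWeight chevG2 9 = Weyl.rootWeight chevG2 ((9 : Fin 12) : ℕ) from rfl, e]
      revert k
      decide +kernel
  have hlt : (r : ℕ) < 12 := r.isLt
  rcases (by omega : (r : ℕ) = 9 ∨ (r : ℕ) = 10 ∨ (r : ℕ) = 11) with e | e | e
  · exact Fin.ext e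
  · refine (key (gM.simple i1 * w) ?_).elim
    refine ((DFunLike.congr_fun (map_mul gH.rootPerm (gM.simple i1) w) _).trans
      (congrArg (gH.rootPerm (gM.simple i1)) hr)).trans ?_
    apply Fin.ext
    rw [gH.rootPerm_simple_apply, e]
    decide +kernel
  · exact (key w (hr.trans (Fin.ext e))).elim

/-- `u x₉(1) u⁻¹` for `u ∈ U`. -/
theorem conj_nine {u : GL chevG2.Idx F} (hu : u ∈ chevG2.posUnipotent F) :
    ∃ p q : F, u * x 9 1 * u⁻¹ = x 9 1 * x 10 p * x 11 q := by
  obtain ⟨v, rfl⟩ := exists_N hu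
  obtain ⟨r, hr⟩ := exists_mulC_eq v (⟨0, 0, 0, 1, 0, 0⟩ : Co F)
  refine ⟨r.e, r.f, ?_⟩
  have ha : r.a = 0 := by have := congrArg Co.a hr; simp [mulC] at this; exact this
  have hb : r.b = 0 := by have := congrArg Co.b hr; simp [mulC, ha] at this; exact this
  have hc : r.c = 0 := by
    have := congrArg Co.c hr; simp [mulC, ha, hb] at this; linear_combination this
  have hd : r.d = 1 := by
    have := congrArg Co.d hr
    simp [mulC, ha, hb, hc] at this
    linear_combination -this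
  rw [x9_eq, N_mul, hr, ← N_mul, mul_inv_cancel_right]
  simp [N, ha, hb, hc, hd, x_zero]

omit [CharP F 2] in
theorem x_congr {k k' : Fin 12} (h : (k : ℕ) = k') {t : F} : x k t = x k' t := by
  rw [Fin.ext h]

/-- The roots of the asserted centralizer of `x₉(1)`. -/
def setQ : Set (Root chevG2) := {r | (r : ℕ) ∈ [9, 10, 11, 6, 5]}

theorem setQ_commute (c : F) :
    rootGen gW.good F setQ ≤ Subgroup.centralizer {x 9 c} := by
  refine rootGen_le gW.good fun r hr t => ?_
  rw [Subgroup.mem_centralizer_singleton_iff]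
  change x (r : Fin 12) t * x 9 c = x 9 c * x (r : Fin 12) t
  simp only [setQ, Set.mem_ofPred_eq, List.mem_cons, List.not_mem_nil, or_false] at hr
  rcases hr with e | e | e | e | e
  · rw [x_congr (k := (r : Fin 12)) (k' := 9) e, x_mul, x_mul, add_comm]
  · rw [x_congr (k := (r : Fin 12)) (k' := 10) e]
    exact (x_commute 10 9 (by decide +kernel) _ _).eq
  · rw [x_congr (k := (r : Fin 12)) (k' := 11) e]
    exact (x_commute 11 9 (by decide +kernel) _ _).eq
  · rw [x_congr (k := (r : Fin 12)) (k' := 6) e]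
    exact (x_commute 6 9 (by decide +kernel) _ _).eq
  · rw [x_congr (k := (r : Fin 12)) (k' := 5) e]
    exact (x_commute 9 5 (by decide +kernel) _ _).eq.symm

omit [CharP F 2] in
theorem x_mem_setQ {k : Fin 12} (hk : (k : ℕ) ∈ [9, 10, 11, 6, 5]) (t : F) :
    x k t ∈ rootGen gW.good F setQ := X_mem_rootGen gW.good hk t

theorem le_setQ {g : GL chevG2.Idx F} (hg : g ∈ chevG2.group F)
    (hgt : g * x 9 1 * g⁻¹ = x 9 1) : g ∈ rootGen gW.good F setQ := by
  set Q := rootGen gW.good F setQ with hQ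
  set Rd := rootGen gW.good F (posCompl gW i1) with hRd
  let T : Subgroup (GL chevG2.Idx F) :=
    (MonoidHom.mk' (fun t : Fˣ => tor 0 t) fun _ _ => (hT_mul _ _ _).symm).range
  have hp : ((pRoot gW i1 : Root chevG2) : ℕ) = 6 := rfl
  -- `Q` normalises `Rd`
  have hnorm : ∀ {z : GL chevG2.Idx F}, (∀ v ∈ Rd, z * v * z⁻¹ ∈ Rd) →
      (∀ v ∈ Rd, z⁻¹ * v * z ∈ Rd) → z ∈ Subgroup.normalizer (Rd : Set (GL chevG2.Idx F)) :=
    fun {z} h1 h2 => Subgroup.mem_normalizer_iff.2 fun v => ⟨h1 v, fun hv => by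
      have := h2 _ hv
      rwa [show z⁻¹ * (z * v * z⁻¹) * z = v by group] at this⟩
  have hn1 : (n 1 : GL chevG2.Idx F) ∈ Subgroup.normalizer (Rd : Set (GL chevG2.Idx F)) :=
    hnorm (fun v hv => nR_conj_posCompl gW i1 hv)
      (fun v hv => nR_inv_conj_posCompl gW i1 hv)
  have h6 : ∀ c : F, x 6 c ∈ Subgroup.normalizer (Rd : Set (GL chevG2.Idx F)) := fun c =>
    hnorm (fun v hv => X_conj_posCompl gW i1 c hv) fun v hv => by
      have := X_conj_posCompl gW i1 (-c) hv
      rw [← X_inv, inv_inv] at this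
      exact this
  have hQN : Q ≤ Subgroup.normalizer (Rd : Set (GL chevG2.Idx F)) := by
    refine rootGen_le gW.good fun r hr t => ?_
    change x (r : Fin 12) t ∈ _
    simp only [setQ, Set.mem_ofPred_eq, List.mem_cons, List.not_mem_nil, or_false] at hr
    by_cases e6 : (r : ℕ) = 6
    · rw [x_congr (k := (r : Fin 12)) (k' := 6) e6]; exact h6 t
    by_cases e5 : (r : ℕ) = 5
    · rw [x_congr (k := (r : Fin 12)) (k' := 5) e5,
        ← nR_conj_x 1 (k := 6) (k' := 5) (by decide +kernel)]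
      exact mul_mem (mul_mem hn1 (h6 t)) (inv_mem hn1)
    · have hr' : r ∈ posCompl gW i1 := ⟨by rw [half_eq]; omega, fun e => e6 (e ▸ hp)⟩
      exact Subgroup.le_normalizer (X_mem_rootGen gW.good hr' t)
  have hU : chevG2.posUnipotent F ≤ Rd ⊔ Q := by
    rw [posUnipotent_eq_rootGen gW.good]
    refine rootGen_le gW.good fun r hr t => ?_
    by_cases e : r = pRoot gW i1
    · refine Subgroup.mem_sup_right (X_mem_rootGen gW.good ?_ t)
      rw [e]; simp [setQ, hp]
    · exact Subgroup.mem_sup_left (X_mem_rootGen gW.good (S := posCompl gW i1) ⟨hr, e⟩ t)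
  have hX1 : ∀ c : F, X gW.good (pRoot gW i1) c ∈ Q := fun c =>
    X_mem_rootGen gW.good (by simp [setQ, hp]) c
  have hX1' : ∀ c : F, X gW.good (pRoot gW i1).rev c ∈ Q := fun c =>
    X_mem_rootGen gW.good (show ((pRoot gW i1).rev : ℕ) ∈ [9, 10, 11, 6, 5] by
      rw [Fin.val_rev, hp]; decide) c
  have hN : ∀ c : Fˣ, nElt gW.good (pRoot gW i1) c ∈ Q := fun c =>
    mul_mem (mul_mem (hX1 _) (hX1' _)) (hX1 _)
  have hH : chevG2.diagonalSubgroup F ≤ Q ⊔ T := by
    rw [diagonalSubgroup_eq_range gW]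
    rintro _ ⟨c, rfl⟩
    show torC chevG2 c ∈ _
    rw [torC_eq_prod gW]
    refine Subgroup.list_prod_mem _ fun z hz => ?_
    obtain ⟨i, -, rfl⟩ := List.mem_map.1 hz
    rcases rank_cases i with rfl | rfl
    · exact Subgroup.mem_sup_right ⟨_, rfl⟩
    · rw [← hElt_eq gW]
      exact Subgroup.mem_sup_left (mul_mem (hN _) (hN _))
  -- the Weyl group element fixes `2a + b`
  obtain ⟨u, hu, y, hy, w, u', hu', rfl⟩ := exists_bruhat gW gH hg
  set A := y * nW gW gH F w with hA
  obtain ⟨p, q, hpq⟩ := conj_nine hu'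
  obtain ⟨p', q', hpq'⟩ := conj_nine (inv_mem hu)
  have heq : A * (x 9 1 * x 10 p * x 11 q) * A⁻¹ = x 9 1 * x 10 p' * x 11 q' := by
    rw [← hpq, ← hpq', ← congrArg (fun z => u⁻¹ * z * u⁻¹⁻¹) hgt, hA]
    group
  obtain ⟨e9, he9⟩ := exists_conj_scale (F := F) gW gH hy w ((9 : Fin 12) : Root chevG2)
  obtain ⟨e10, he10⟩ := exists_conj_scale (F := F) gW gH hy w ((10 : Fin 12) : Root chevG2)
  obtain ⟨e11, he11⟩ := exists_conj_scale (F := F) gW gH hy w ((11 : Fin 12) : Root chevG2)
  let L : List (Root chevG2 × F) :=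
    [((9 : Fin 12), 1), ((10 : Fin 12), p), ((11 : Fin 12), q)]
  let L' : List (Root chevG2 × F) :=
    [(gH.rootPerm w (9 : Fin 12), (e9 : F) * 1), (gH.rootPerm w (10 : Fin 12), (e10 : F) * p),
      (gH.rootPerm w (11 : Fin 12), (e11 : F) * q)]
  have hw9 : 9 ≤ ((gH.rootPerm w (9 : Fin 12) : Root chevG2) : ℕ) := by
    refine le_of_commuting_prodX gW (L := L') ?_ ?_ (m := 9) (by rw [half_eq]; norm_num) ?_
      (p := (gH.rootPerm w (9 : Fin 12), (e9 : F) * 1)) (List.mem_cons_self ..)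
      (by simp [e9.ne_zero])
    · have : ([((9 : Fin 12) : Root chevG2), (10 : Fin 12), (11 : Fin 12)]).Nodup := by
        decide
      exact this.map (f := gH.rootPerm w) (gH.rootPerm w).injective
    · have hc : ∀ a ∈ L, ∀ b ∈ L, Commute (X gW.good a.1 a.2) (X gW.good b.1 b.2) := by
        have h1 := x_commute (F := F) 9 10 (by decide +kernel) 1 p
        have h2 := x_commute (F := F) 9 11 (by decide +kernel) 1 q
        have h3 := x_commute (F := F) 10 11 (by decide +kernel) p q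
        simp only [L, List.mem_cons, List.not_mem_nil, or_false, forall_eq_or_imp, forall_eq]
        exact ⟨⟨Commute.refl _, h1, h2⟩, ⟨h1.symm, Commute.refl _, h3⟩,
          ⟨h2.symm, h3.symm, Commute.refl _⟩⟩
      intro a ha b hb
      have hmap : ∀ a ∈ L', ∃ z ∈ L, X gW.good a.1 a.2 = A * X gW.good z.1 z.2 * A⁻¹ := by
        simp only [L, L', List.mem_cons, List.not_mem_nil, or_false, forall_eq_or_imp, forall_eq,
          exists_eq_or_imp, exists_eq_left]
        exact ⟨.inl (he9 1).symm, .inr (.inl (he10 p).symm), .inr (.inr (he11 q).symm)⟩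
      obtain ⟨z, hz, ea⟩ := hmap a ha
      obtain ⟨z', hz', eb⟩ := hmap b hb
      rw [ea, eb]
      exact (hc z hz z' hz').map (MulAut.conj A).toMonoidHom
    · have hL : prodX gW.good L' = x 9 1 * x 10 p' * x 11 q' := by
        rw [← heq]
        show X gW.good _ _ * (X gW.good _ _ * (X gW.good _ _ * 1)) = _
        refine Eq.trans (congrArg₂ (· * ·) (he9 1).symm
          (congrArg₂ (· * ·) (he10 p).symm (congrArg (· * 1) (he11 q).symm))) ?_
        rw [hA]
        group
        rfl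
      rw [hL]
      refine mul_mem (mul_mem ?_ ?_) ?_ <;> refine X_mem_uGe gW.good ?_ ?_ _ <;>
        simp [key, half_eq]
  have hstab := gH.stabilizer_root weightOk_G2 (r := ((9 : Fin 12) : Root chevG2))
    (by decide +kernel) (nine_eq rfl hw9)
  have hnW : nW gW gH F w ∈ Q ⊔ T := by
    refine nW_mem_of_closure gW gH hH (S := {i | chevG2.cartan i 9 = 0}) (fun i hi => ?_) hstab
    rcases rank_cases i with rfl | rfl
    · exact absurd hi (show chevG2.cartan i0 9 ≠ 0 by decide +kernel)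
    · rw [← nElt_one gW]
      exact Subgroup.mem_sup_left (hN 1)
  have hmem : u * y * nW gW gH F w * u' ∈ (Rd ⊔ Q) ⊔ T := by
    have h1 : Q ⊔ T ≤ (Rd ⊔ Q) ⊔ T := sup_le_sup_right le_sup_right _
    exact mul_mem (mul_mem (mul_mem (Subgroup.mem_sup_left (hU hu)) (h1 (hH hy))) (h1 hnW))
      (Subgroup.mem_sup_left (hU hu'))
  have hTH : T ≤ chevG2.diagonalSubgroup F := by
    rintro _ ⟨t, rfl⟩; exact hT_mem_diagonal gW _ _
  have hTN : T ≤ Subgroup.normalizer ((Rd ⊔ Q : Subgroup _) : Set (GL chevG2.Idx F)) := by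
    have e : Rd ⊔ Q = rootGen gW.good F (posCompl gW i1 ∪ setQ) := by
      rw [hRd, hQ, rootGen, rootGen, rootGen, ← Subgroup.closure_union]
      congr 1
      ext z
      constructor
      · rintro (⟨r, h1, t, rfl⟩ | ⟨r, h1, t, rfl⟩)
        exacts [⟨r, .inl h1, t, rfl⟩, ⟨r, .inr h1, t, rfl⟩]
      · rintro ⟨r, h1 | h1, t, rfl⟩
        exacts [.inl ⟨r, h1, t, rfl⟩, .inr ⟨r, h1, t, rfl⟩]
    rw [e]
    exact hTH.trans (diag_le_normalizer_rootGen gW _)
  rw [← SetLike.mem_coe, Subgroup.coe_mul_of_right_le_normalizer_left _ _ hTN,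
    Subgroup.coe_mul_of_right_le_normalizer_left _ _ hQN] at hmem
  obtain ⟨_, ⟨r, hr, q0, hq0, rfl⟩, _, ⟨c, rfl⟩, hgc⟩ := hmem
  change r * q0 * tor 0 c = _ at hgc
  rw [← hgc] at hgt ⊢
  -- `r = x₇(b) x₈(c')` times an element of `Q`
  obtain ⟨b, c', q1, hq1, rfl⟩ : ∃ (b c' : F) (q1 : GL chevG2.Idx F), q1 ∈ Q ∧
      r = x 7 b * x 8 c' * q1 := by
    have hr7 : r ∈ uGe gW.good F false 7 := by
      refine rootGen_le gW.good (fun s hs t => X_mem_uGe gW.good hs.1 ?_ t) hr
      have h1 : half chevG2 ≤ (s : ℕ) := hs.1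
      have h2 : (s : ℕ) ≠ 6 := fun e => hs.2 (Fin.ext (e.trans hp.symm))
      rw [half_eq] at h1
      change 7 ≤ (s : ℕ)
      omega
    obtain ⟨t, ht⟩ := exists_prodFrom gW.toGoodComm 5 7 (by rw [half_eq]; norm_num) rfl r hr7
    refine ⟨t 7, t 8, x 9 (t 9) * x 10 (t 10) * x 11 (t 11),
      mul_mem (mul_mem (x_mem_setQ (by decide) _) (x_mem_setQ (by decide) _))
        (x_mem_setQ (by decide) _), ?_⟩
    rw [← ht]
    simp only [prodFrom, show List.range' 7 5 = [7, 8, 9, 10, 11] from rfl, List.map_cons,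
      List.map_nil, List.prod_cons, List.prod_nil, mul_one]
    rw [rootOf_false _ (by decide), rootOf_false _ (by decide), rootOf_false _ (by decide),
      rootOf_false _ (by decide), rootOf_false _ (by decide)]
    simp only [mul_assoc]
    rfl
  have hτ : tor 0 c * x 9 1 * (tor 0 c)⁻¹ = x 9 (c : F) := by
    rw [tor_conj_x _ _ _ (by decide +kernel), mul_one]
  have hq9 : (q1 * q0) * x 9 (c : F) * (q1 * q0)⁻¹ = x 9 (c : F) := by
    rw [Subgroup.mem_centralizer_singleton_iff.1 (setQ_commute _ (mul_mem hq1 hq0)),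
      mul_inv_cancel_right]
  have hv : (x 7 b * x 8 c') * x 9 (c : F) = x 9 1 * (x 7 b * x 8 c') := by
    have h1 : (x 7 b * x 8 c') * x 9 (c : F) * (x 7 b * x 8 c')⁻¹ = x 9 1 := by
      rw [← hgt, ← hq9, ← hτ]
      group
    calc (x 7 b * x 8 c') * x 9 (c : F)
        = (x 7 b * x 8 c') * x 9 (c : F) * (x 7 b * x 8 c')⁻¹ * (x 7 b * x 8 c') := by group
      _ = _ := by rw [h1]
  rw [show x 7 b * x 8 c' = N (⟨0, b, c', 0, 0, 0⟩ : Co F) by simp [N, x_zero], x9_eq, x9_eq,
    N_mul, N_mul] at hv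
  have hv' := N_injective hv
  simp [mulC] at hv'
  obtain ⟨hc, hb, hc'⟩ := hv'
  have hc1 : c = 1 := hc
  subst hb hc' hc1
  rw [show tor 0 (1 : Fˣ) = (1 : GL chevG2.Idx F) from hT_one _]
  simpa [x_zero] using mul_mem hq1 hq0

theorem centralizer_x9 :
    chevG2.group F ⊓ Subgroup.centralizer {x 9 (1 : F)} =
      chevG2.rootSubgroup F 9 ⊔ chevG2.rootSubgroup F 10 ⊔ chevG2.rootSubgroup F 11 ⊔
        chevG2.rootSubgroup F 6 ⊔ chevG2.rootSubgroup F 5 := by
  refine le_antisymm ?_ ?_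
  swap
  · have key : ∀ k : Fin 12, (k : ℕ) ∈ [9, 10, 11, 6, 5] →
        chevG2.rootSubgroup F k ≤ chevG2.group F ⊓ Subgroup.centralizer {x 9 (1 : F)} := by
      intro k hk g hg
      obtain ⟨t, rfl⟩ := (mem_rootSubgroup_iff gW.good (r := (k : Root chevG2))).1 hg
      exact ⟨X_mem_group _ _ _, setQ_commute 1 (x_mem_setQ hk t)⟩
    exact sup_le (sup_le (sup_le (sup_le (key 9 (by decide)) (key 10 (by decide)))
      (key 11 (by decide))) (key 6 (by decide))) (key 5 (by decide))
  · rintro g ⟨hg, hgt⟩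
    have hmem := le_setQ hg (by rw [Subgroup.mem_centralizer_singleton_iff.1 hgt,
      mul_inv_cancel_right])
    refine rootGen_le gW.good (fun r hr t => ?_) hmem
    have hrt := X_mem_rootSubgroup gW.good r t
    simp only [setQ, Set.mem_ofPred_eq, List.mem_cons, List.not_mem_nil, or_false] at hr
    rcases hr with e | e | e | e | e <;> rw [e] at hrt <;>
      first
        | exact Subgroup.mem_sup_right hrt
        | exact Subgroup.mem_sup_left (Subgroup.mem_sup_right hrt)
        | exact Subgroup.mem_sup_left (Subgroup.mem_sup_left (Subgroup.mem_sup_right hrt))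
        | exact Subgroup.mem_sup_left
            (Subgroup.mem_sup_left (Subgroup.mem_sup_left (Subgroup.mem_sup_right hrt)))
        | exact Subgroup.mem_sup_left
            (Subgroup.mem_sup_left (Subgroup.mem_sup_left (Subgroup.mem_sup_left hrt)))

omit [CharP F 2] in
theorem not_nine_of_pos {r : Root chevG2} {e : F} {p q : F}
    (h : X gW.good r e = x 9 1 * x 10 p * x 11 q) (he : e ≠ 0) : (r : ℕ) = 9 := by
  have hlt : (r : ℕ) < 12 := r.isLt
  have hm : X gW.good r e ∈ uGe gW.good F false 9 := by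
    rw [h]
    refine mul_mem (mul_mem ?_ ?_) ?_ <;> refine X_mem_uGe gW.good ?_ ?_ _ <;>
      simp [key, half_eq]
  have h9 : 9 ≤ (r : ℕ) := le_key_of_X_mem gW.toGoodUni he hm
  have hN : N (⟨0, 0, 0, 1, p, q⟩ : Co F) = X gW.good r e := by rw [h]; simp [N, x_zero]
  rcases (by omega : (r : ℕ) = 9 ∨ (r : ℕ) = 10 ∨ (r : ℕ) = 11) with h' | h' | h'
  · exact h'
  · rw [show X gW.good r e = N (⟨0, 0, 0, 0, e, 0⟩ : Co F) by
      rw [show r = ((10 : Fin 12) : Root chevG2) from Fin.ext h']; simp [N, x_zero]; rfl] at hN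
    simpa using congrArg Co.d (N_injective hN)
  · rw [show X gW.good r e = N (⟨0, 0, 0, 0, 0, e⟩ : Co F) by
      rw [show r = ((11 : Fin 12) : Root chevG2) from Fin.ext h']; simp [N, x_zero]; rfl] at hN
    simpa using congrArg Co.d (N_injective hN)

/-- The two representatives are not conjugate. -/
theorem not_conj : ¬ Conj (x 11 (1 : F)) (x 9 1) := by
  rintro ⟨g, hg, hgt⟩
  obtain ⟨u, hu, y, hy, w, u', hu', rfl⟩ := exists_bruhat gW gH hg
  obtain ⟨e, he⟩ := exists_conj_scale (F := F) gW gH hy w ((11 : Fin 12) : Root chevG2)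
  obtain ⟨p, q, hpq⟩ := conj_nine (inv_mem hu)
  obtain ⟨v, rfl⟩ := exists_N hu'
  have hcomm : N v * x 11 (1 : F) * (N v)⁻¹ = x 11 1 := by
    rw [x11_eq, N_mul, show mulC v (⟨0, 0, 0, 0, 0, 1⟩ : Co F) = mulC ⟨0, 0, 0, 0, 0, 1⟩ v by
      ext <;> simp [mulC]; ring, ← N_mul, mul_inv_cancel_right]
  have hkey : X gW.good (gH.rootPerm w (11 : Fin 12)) ((e : F) * 1) =
      x 9 1 * x 10 p * x 11 q := by
    rw [← he, ← hpq, ← hgt]
    conv_lhs => rw [show X gW.good ((11 : Fin 12) : Root chevG2) (1 : F) = x 11 1 from rfl,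
      ← hcomm]
    group
  have h9 := not_nine_of_pos hkey (by simp)
  have e' := gH.rep_rootWeight weightOk_G2 w (11 : Fin 12)
  rw [h9] at e'
  have hd := gH.dominant_unique (v := Weyl.rootWeight chevG2 11) (w := w) (by decide +kernel) ?_
  · have := congrFun (e'.symm.trans hd) (0 : Fin 2)
    revert this
    decide +kernel
  · intro k
    rw [show Weyl.rootWeight chevG2 11 = Weyl.rootWeight chevG2 ((11 : Fin 12) : ℕ) from rfl, e']
    revert k
    decide +kernel

end CfsgLib.ChevInvol.G2
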