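import Cfsg.Agent.ChevInvol.Bruhat
import Cfsg.Agent.Chevalley.GroupOrder
import Cfsg.Agent.Chevalley.BruhatUnique
import Mathlib.GroupTheory.Sylow
import Mathlib.FieldTheory.Finite.Basic

/-!
# The support of a product of root elements; involutions and `U`
-/

set_option autoImplicit false

namespace CfsgLib.ChevInvol

open Cfsg.Lie CfsgLib.Chevalley

variable {D : ChevalleyDatum} {F : Type*} [Field F]

/-- A root element in a term of the series has its key in it. -/
theorem le_key_of_X_mem (hU : GoodUni D) {b : Bool} {r : Root D} {t : F} (ht : t ≠ 0) {m : ℕ}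
    (h : X hU.good r t ∈ uGe hU.good F b m) : m ≤ key b r := by
  have hr := key_of_X_mem hU ht h
  by_contra hlt
  obtain ⟨i, hi⟩ := hU.exists_coroot_ne F r
  have h' : X hU.good r t ∈ uGe hU.good F b ((m - 1) + 1) :=
    uGe_mono hU.good (by omega) h
  have e := entry_eq_zero hU.good h' i hr (by omega)
  rw [coe_X, xR_entry_coroot hU.good, if_pos rfl] at e
  exact mul_ne_zero ht hi e

/-- The product of a list of root elements. -/
def prodX (hD : Good D) (L : List (Root D × F)) : GL D.Idx F :=
  (L.map fun p => X hD p.1 p.2).prod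

theorem prodX_mem (hD : Good D) {b : Bool} {m : ℕ} {L : List (Root D × F)}
    (hL : ∀ p ∈ L, p.2 = 0 ∨ half D ≤ key b p.1 ∧ m ≤ key b p.1) :
    prodX hD L ∈ uGe hD F b m := by
  refine Subgroup.list_prod_mem _ fun g hg => ?_
  obtain ⟨p, hp, rfl⟩ := List.mem_map.1 hg
  rcases hL p hp with h0 | ⟨h1, h2⟩
  · rw [h0, X_zero]; exact one_mem _
  · exact X_mem_uGe hD h1 h2 _

/-- The roots of a product of distinct root elements of one side lie where the product lies. -/
theorem le_key_of_prodX (hU : GoodUni D) {b : Bool} {L : List (Root D × F)}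
    (hnd : (L.map Prod.fst).Nodup) (hside : ∀ p ∈ L, half D ≤ key b p.1) {m : ℕ}
    (hmem : prodX hU.good L ∈ uGe hU.good F b m) {p : Root D × F} (hp : p ∈ L) (hne : p.2 ≠ 0) :
    m ≤ key b p.1 := by
  suffices H : ∀ k, ∀ q ∈ L, q.2 ≠ 0 → key b q.1 = k → m ≤ k from H _ p hp hne rfl
  intro k
  induction k using Nat.strong_induction_on with
  | _ k ih =>
    intro q hq hq0 hqk
    by_contra hlt
    obtain ⟨A, B, rfl⟩ := List.append_of_mem hq
    have hrest : ∀ r ∈ A ++ B, r.2 = 0 ∨ half D ≤ key b r.1 ∧ k + 1 ≤ key b r.1 := by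
      intro r hr
      have hr' : r ∈ A ++ q :: B := by
        rcases List.mem_append.1 hr with h | h
        · exact List.mem_append_left _ h
        · exact List.mem_append_right _ (List.mem_cons_of_mem _ h)
      by_cases hr0 : r.2 = 0
      · exact .inl hr0
      refine .inr ⟨hside r hr', ?_⟩
      have h1 : key b r.1 ≠ k := by
        intro e
        have e' : r.1 = q.1 := key_injective b (e.trans hqk.symm)
        rw [List.map_append, List.map_cons, List.nodup_middle, List.nodup_cons] at hnd
        exact hnd.1 (e' ▸ by simpa using List.mem_map_of_mem (f := Prod.fst) hr)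
      by_contra hc
      have := ih (key b r.1) (by omega) r hr' hr0 rfl
      omega
    have hA : prodX hU.good A ∈ uGe hU.good F b (k + 1) :=
      prodX_mem _ fun r hr => hrest r (List.mem_append_left _ hr)
    have hB : prodX hU.good B ∈ uGe hU.good F b (k + 1) :=
      prodX_mem _ fun r hr => hrest r (List.mem_append_right _ hr)
    have e : X hU.good q.1 q.2 =
        (prodX hU.good A)⁻¹ * prodX hU.good (A ++ q :: B) * (prodX hU.good B)⁻¹ := by
      simp [prodX]
    have hX : X hU.good q.1 q.2 ∈ uGe hU.good F b (k + 1) :=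
      e ▸ mul_mem (mul_mem (inv_mem hA) (uGe_mono hU.good (by omega) hmem)) (inv_mem hB)
    have := le_key_of_X_mem hU hq0 hX
    omega

theorem prodX_filter (hD : Good D) (f : Root D × F → Bool) {L : List (Root D × F)}
    (hc : ∀ p ∈ L, ∀ q ∈ L, Commute (X hD p.1 p.2) (X hD q.1 q.2)) :
    prodX hD L = prodX hD (L.filter f) * prodX hD (L.filter fun p => !f p) := by
  induction L with
  | nil => simp [prodX]
  | cons a L ih =>
    have ih' := ih fun p hp q hq => hc p (List.mem_cons_of_mem _ hp) q (List.mem_cons_of_mem _ hq)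
    simp only [prodX, List.map_cons, List.prod_cons] at ih' ⊢
    rw [ih']
    cases hfa : f a
    · rw [List.filter_cons_of_neg (by simp [hfa]), List.filter_cons_of_pos (by simp [hfa]),
        List.map_cons, List.prod_cons, ← mul_assoc, ← mul_assoc]
      congr 1
      refine (Commute.list_prod_right _ _ fun g hg => ?_).eq
      obtain ⟨q, hq, rfl⟩ := List.mem_map.1 hg
      exact hc a (List.mem_cons_self ..) q (List.mem_cons_of_mem _ (List.mem_filter.1 hq).1)
    · rw [List.filter_cons_of_pos (by simp [hfa]), List.filter_cons_of_neg (by simp [hfa]),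
        List.map_cons, List.prod_cons, mul_assoc]

/-- The roots of a product of distinct commuting root elements lying in a term of the positive
series are positive and lie in that term. -/
theorem le_of_commuting_prodX (hW : GoodWeyl D) {L : List (Root D × F)}
    (hnd : (L.map Prod.fst).Nodup)
    (hc : ∀ p ∈ L, ∀ q ∈ L, Commute (X hW.good p.1 p.2) (X hW.good q.1 q.2)) {m : ℕ}
    (hm : half D ≤ m) (hmem : prodX hW.good L ∈ uGe hW.good F false m) {p : Root D × F}
    (hp : p ∈ L) (hne : p.2 ≠ 0) : m ≤ (p.1 : ℕ) := by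
  have hh := hW.good.two_half
  set f : Root D × F → Bool := fun q => decide (half D ≤ (q.1 : ℕ)) with hf
  set P := L.filter f with hP
  set Q := L.filter fun q => !f q with hQ
  have hsplit := prodX_filter hW.good f hc
  have hPs : ∀ q ∈ P, half D ≤ key false q.1 := fun q hq => by
    simpa [hf, key] using (List.mem_filter.1 hq).2
  have hQs : ∀ q ∈ Q, half D ≤ key true q.1 := fun q hq => by
    have := (List.mem_filter.1 hq).2
    simp [hf] at this
    simp [key, Fin.val_rev]
    omega
  have hPm : prodX hW.good P ∈ D.posUnipotent F := by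
    rw [posUnipotent_eq hW.good]
    exact prodX_mem _ fun q hq => .inr ⟨hPs q hq, hPs q hq⟩
  have hQn : prodX hW.good Q ∈ uGe hW.good F true (half D) :=
    prodX_mem _ fun q hq => .inr ⟨hQs q hq, hQs q hq⟩
  have hLp : prodX hW.good L ∈ D.posUnipotent F := by
    rw [posUnipotent_eq hW.good]
    exact uGe_mono hW.good hm hmem
  have hQp : prodX hW.good Q ∈ D.borelSubgroup F := by
    refine pos_le_borel D ?_
    rw [show prodX hW.good Q = (prodX hW.good P)⁻¹ * prodX hW.good L by
      rw [hsplit, inv_mul_cancel_left]]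
    exact mul_mem (inv_mem hPm) hLp
  have hQ1 : prodX hW.good Q = 1 := by
    rw [← Subgroup.mem_bot, ← borel_inf_neg hW]
    exact ⟨hQp, by rw [negUnipotent_eq hW.good]; exact hQn⟩
  have hQ0 : ∀ q ∈ Q, q.2 = 0 := by
    intro q hq
    by_contra h0
    have := le_key_of_prodX hW.toGoodUni ((List.filter_sublist.map _).nodup hnd) hQs
      (m := D.nroots) (hQ1 ▸ one_mem _) hq h0
    have := key_lt true q.1
    omega
  have hpP : p ∈ P := by
    rcases hfp : f p with _ | _
    · exact absurd (hQ0 p (List.mem_filter.2 ⟨hp, by simp [hfp]⟩)) hne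
    · exact List.mem_filter.2 ⟨hp, hfp⟩
  refine le_key_of_prodX hW.toGoodUni ((List.filter_sublist.map _).nodup hnd) hPs ?_ hpP hne
  rw [hsplit, show prodX hW.good (L.filter fun q => !f q) = 1 from hQ1, mul_one] at hmem
  exact hmem

variable {C : Weyl.Cert D.rank} {M : CoxeterMatrix (Fin D.rank)} {R : Weyl.RootTable}

/-- The order of the diagonal subgroup in characteristic two is odd. -/
theorem odd_natCard_diagonal [Finite F] [CharP F 2] (hW : GoodWeyl D) :
    Odd (Nat.card (D.diagonalSubgroup F)) := by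
  cases nonempty_fintype F
  obtain ⟨n, -, hn⟩ := FiniteField.card F 2
  have hodd : Odd (Nat.card (Fin D.rank → Fˣ)) := by
    rw [Nat.card_fun, Nat.card_units, Nat.card_eq_fintype_card, hn]
    refine Odd.pow ?_
    exact Nat.Even.sub_odd Nat.one_le_two_pow (Nat.even_pow.2 ⟨even_two, n.pos.ne'⟩) odd_one
  rw [diagonalSubgroup_eq_range hW]
  exact Odd.of_dvd_nat hodd (Subgroup.card_range_dvd _)

/-- In characteristic two every involution is conjugate into `U`. -/
theorem exists_conj_pos [Finite F] [CharP F 2] (hW : GoodWeyl D) (h : Weyl.RootGood C M R)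
    {g : GL D.Idx F} (hg : g ∈ D.group F) (h2 : g * g = 1) :
    ∃ k ∈ D.group F, k * g * k⁻¹ ∈ D.posUnipotent F := by
  classical
  have := Fact.mk (Nat.prime_two)
  have := h.finite_group
  let := Fintype.ofFinite M.Group
  cases nonempty_fintype F
  obtain ⟨n, -, hn⟩ := FiniteField.card F 2
  set U := (D.posUnipotent F).subgroupOf (D.group F)
  have hUle : D.posUnipotent F ≤ D.group F :=
    (pos_le_borel D).trans (borel_le_group hW)
  have hq : Nat.card F = 2 ^ (n : ℕ) := by rw [Nat.card_eq_fintype_card, hn]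
  have hUcard : Nat.card U = Nat.card F ^ half D := by
    rw [Nat.card_congr (Subgroup.subgroupOfEquivOfLe hUle).toEquiv, posUnipotent_eq hW.good]
    exact natCard_uGe hW.toGoodUni
  have hidx : ¬ 2 ∣ U.index := by
    have hmul := U.card_mul_index
    rw [natCard_group hW h, hUcard, mul_assoc] at hmul
    have hpos : 0 < Nat.card F ^ half D := pow_pos Nat.card_pos _
    rw [Nat.eq_of_mul_eq_mul_left hpos hmul]
    intro hdvd
    rcases Nat.prime_two.dvd_mul.1 hdvd with hd | hd
    · exact Nat.not_even_iff_odd.2 (odd_natCard_diagonal hW) (even_iff_two_dvd.2 hd)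
    · rw [← Finset.add_sum_erase _ _ (Finset.mem_univ (1 : M.Group))] at hd
      rw [show M.toCoxeterSystem.length 1 = 0 from M.toCoxeterSystem.length_one, pow_zero] at hd
      have : 2 ∣ ∑ w ∈ Finset.univ.erase (1 : M.Group), Nat.card F ^ M.toCoxeterSystem.length w :=
        Finset.dvd_sum fun w hw => by
          refine dvd_pow (by rw [hq]; exact dvd_pow_self 2 n.pos.ne') ?_
          simpa [M.toCoxeterSystem.length_eq_zero_iff] using (Finset.mem_erase.1 hw).1
      omega
  have hpU : IsPGroup 2 U := IsPGroup.of_card (n := n * half D) (by rw [hUcard, hq, pow_mul])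
  let P : Sylow 2 (D.group F) := hpU.toSylow hidx
  have hZ : IsPGroup 2 ↥(Subgroup.zpowers (⟨g, hg⟩ : D.group F)) := by
    rintro ⟨z, hz⟩
    obtain ⟨k, rfl⟩ := Subgroup.mem_zpowers_iff.1 hz
    refine ⟨1, Subtype.ext ?_⟩
    show ((⟨g, hg⟩ : D.group F) ^ k) ^ (2 ^ 1) = 1
    rw [← zpow_natCast, zpow_comm, zpow_natCast]
    have e : (⟨g, hg⟩ : D.group F) ^ (2 ^ 1) = 1 := Subtype.ext (by simp [pow_two, h2])
    rw [e, one_zpow]
  obtain ⟨Q, hQ⟩ := hZ.exists_le_sylow
  obtain ⟨k, hk⟩ := MulAction.exists_smul_eq (D.group F) Q P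
  refine ⟨k, k.2, ?_⟩
  have h1 : (⟨g, hg⟩ : D.group F) ∈ (Q : Subgroup (D.group F)) := hQ (Subgroup.mem_zpowers _)
  have h2 : k * ⟨g, hg⟩ * k⁻¹ ∈ (P : Subgroup (D.group F)) := by
    rw [← hk]
    exact ⟨_, h1, rfl⟩
  exact h2

end CfsgLib.ChevInvol

namespace CfsgLib.ChevInvol

open Cfsg.Lie CfsgLib.Chevalley

variable {D : ChevalleyDatum} {C : Weyl.Cert D.rank} {M : CoxeterMatrix (Fin D.rank)}
  {R : Weyl.RootTable} {F : Type*} [Field F]

/-- The representative of a product of simple reflections from a set `S` lies in every subgroup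
containing the diagonal subgroup and their representatives. -/
theorem nW_mem_of_closure (hW : GoodWeyl D) (h : Weyl.RootGood C M R) {K : Subgroup (GL D.Idx F)}
    {S : Set (Fin D.rank)} (hH : D.diagonalSubgroup F ≤ K) (hS : ∀ i ∈ S, nR hW i ∈ K)
    {w : M.Group} (hw : w ∈ Subgroup.closure {s : M.Group | ∃ i ∈ S, s = M.simple i}) :
    nW hW h F w ∈ K := by
  suffices H : ∀ n : ↥(D.monomialSubgroup F), weylHom hW h n = w → (n : GL D.Idx F) ∈ K from
    H ⟨_, nW_mem hW h w⟩ (weylHom_nW hW h w _)
  have hker : ∀ n : ↥(D.monomialSubgroup F), weylHom hW h n = 1 → (n : GL D.Idx F) ∈ K := by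
    intro n hn1
    have : n ∈ (weylHom (F := F) hW h).ker := hn1
    rw [ker_weylHom hW h] at this
    exact hH this
  induction hw using Subgroup.closure_induction with
  | mem s hs =>
    obtain ⟨i, hi, rfl⟩ := hs
    intro n hns
    have h1 := hker (⟨nR hW i, Chevalley.nR_mem_monomial hW i⟩⁻¹ * n)
      (by rw [map_mul, map_inv, weylHom_nR, hns, inv_mul_cancel])
    simpa using mul_mem (hS i hi) h1
  | one => exact hker
  | mul v v' _ _ ih ih' =>
    intro n hn1
    obtain ⟨m, hm⟩ := weylHom_surjective (F := F) hW h v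
    have h1 := ih' (m⁻¹ * n) (by rw [map_mul, map_inv, hm, hn1, inv_mul_cancel_left])
    simpa using mul_mem (ih m hm) h1
  | inv v _ ih =>
    intro n hn1
    simpa using inv_mem (ih n⁻¹ (by rw [map_inv, hn1, inv_inv]))

/-- A monomial element `y n_w` permutes the root subgroups by `w`. -/
theorem exists_conj_scale (hW : GoodWeyl D) (h : Weyl.RootGood C M R) {y : GL D.Idx F}
    (hy : y ∈ D.diagonalSubgroup F) (w : M.Group) (r : Root D) :
    ∃ e : Fˣ, ∀ u : F, y * nW hW h F w * X hW.good r u * (y * nW hW h F w)⁻¹ =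
      X hW.good (h.rootPerm w r) ((e : F) * u) := by
  obtain ⟨a, ha⟩ := (monBy_nW (F := F) hW h w).conj_X r
  obtain ⟨b, hb⟩ := diag_conj_X hW hy (h.rootPerm w r)
  refine ⟨b * a, fun u => ?_⟩
  rw [show y * nW hW h F w * X hW.good r u * (y * nW hW h F w)⁻¹ =
    y * (nW hW h F w * X hW.good r u * (nW hW h F w)⁻¹) * y⁻¹ by group, ha, hb, Units.val_mul,
    mul_assoc]

end CfsgLib.ChevInvol
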