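import Cfsg.Agent.ChevInvol.G2Coords
import Cfsg.Agent.ChevInvol.Support

/-!
# The involutions of the groups of type G₂ in characteristic two
-/

set_option autoImplicit false

namespace CfsgLib.ChevInvol.G2

open Cfsg.Lie CfsgLib.Chevalley

variable {F : Type*} [Field F] [CharP F 2]

omit [CharP F 2] in
theorem coe_eq_iff (k : Fin 12) {g : GL chevG2.Idx F} {t : F} :
    (g : Matrix chevG2.Idx chevG2.Idx F) = chevG2.x F k t ↔ g = x k t :=
  coe_eq_x_iff gW.good k.isLt

omit [CharP F 2] in
theorem x_mem_group (k : Fin 12) (t : F) : x k t ∈ chevG2.group F := X_mem_group _ _ _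

omit [CharP F 2] in
theorem N_mem_group (p : Co F) : N p ∈ chevG2.group F :=
  (pos_le_borel _).trans (borel_le_group gW) (N_mem_pos p)

omit [CharP F 2] in
theorem x9_eq (t : F) : x 9 t = N (⟨0, 0, 0, t, 0, 0⟩ : Co F) := by simp [N, x_zero]

omit [CharP F 2] in
theorem x11_eq (t : F) : x 11 t = N (⟨0, 0, 0, 0, 0, t⟩ : Co F) := by simp [N, x_zero]

/-- The representative of a simple reflection. -/
def n (i : Fin 2) : GL chevG2.Idx F := nR gW i

omit [CharP F 2] in
theorem nR_mem_group (i : Fin 2) : (n i : GL chevG2.Idx F) ∈ chevG2.group F := by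
  rw [n, ← nElt_one gW i]
  exact mul_mem (mul_mem (X_mem_group _ _ _) (X_mem_group _ _ _)) (X_mem_group _ _ _)

/-- `n_i` carries root elements to root elements with the same parameter. -/
theorem nR_conj_x (i : Fin 2) {k k' : Fin 12} (hk : chevG2.reflectRoot i k = k') (t : F) :
    n i * x k t * (n i)⁻¹ = x k' t := by
  unfold x n
  rw [nR_conj gW i (k : Root chevG2) t]
  have he : (eta chevG2 i (k : Root chevG2) : F) = 1 := by
    have := congrArg (Int.cast : ℤ → F) (gW.eta_sq i (k : Root chevG2))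
    push_cast at this
    rcases mul_self_eq_one_iff.1 this with h | h
    · exact h
    · rwa [CharTwo.neg_eq] at h
  rw [he, one_mul, show wPerm gW i (k : Root chevG2) = (k' : Root chevG2) from
    Fin.ext ((gW.wPerm_val i (k : Root chevG2)).trans hk)]

/-- The torus element of a simple root. -/
def tor (i : Fin 2) (c : Fˣ) : GL chevG2.Idx F := hT F (pRoot gW i) c

omit [CharP F 2] in
theorem tor_mem_group (i : Fin 2) (c : Fˣ) : tor i c ∈ chevG2.group F :=
  (diag_le_borel _).trans (borel_le_group gW) (hT_mem_diagonal gW _ _)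

omit [CharP F 2] in
theorem tor_conj_x (i : Fin 2) (c : Fˣ) (k : Fin 12) (h1 : chevG2.cartan i k = 1) (t : F) :
    tor i c * x k t * (tor i c)⁻¹ = x k ((c : F) * t) := by
  refine (hT_pRoot_conj_X gW i c (k : Root chevG2) t).trans ?_
  rw [h1, zpow_one]
  rfl

/-- Conjugacy in the group. -/
def Conj (g y : GL chevG2.Idx F) : Prop := ∃ h ∈ chevG2.group F, h * g * h⁻¹ = y

omit [CharP F 2] in
theorem Conj.trans {g g' y : GL chevG2.Idx F} (h1 : Conj g g') (h2 : Conj g' y) : Conj g y := by
  obtain ⟨a, ha, rfl⟩ := h1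
  obtain ⟨b, hb, rfl⟩ := h2
  exact ⟨b * a, mul_mem hb ha, by group⟩

omit [CharP F 2] in
theorem Conj.of_mem {h : GL chevG2.Idx F} (hh : h ∈ chevG2.group F) (g : GL chevG2.Idx F) :
    Conj g (h * g * h⁻¹) := ⟨h, hh, rfl⟩

omit [CharP F 2] in
theorem Conj.sq_eq_one {g y : GL chevG2.Idx F} (h1 : Conj g y) (h2 : g * g = 1) : y * y = 1 := by
  obtain ⟨a, -, rfl⟩ := h1
  rw [show a * g * a⁻¹ * (a * g * a⁻¹) = a * (g * g) * a⁻¹ by group, h2]
  group

theorem conj_of_mulC {v p r : Co F} (h : mulC v p = mulC r v) : Conj (N p) (N r) :=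
  ⟨N v, N_mem_group v, by rw [N_mul, h, ← N_mul, mul_inv_cancel_right]⟩

theorem exists_mulC_eq (v p : Co F) : ∃ r : Co F, mulC v p = mulC r v := by
  obtain ⟨r, hr⟩ := exists_N (mul_mem (mul_mem (N_mem_pos v) (N_mem_pos p))
    (inv_mem (N_mem_pos v)))
  refine ⟨r, N_injective ?_⟩
  rw [← N_mul, ← N_mul, hr, inv_mul_cancel_right]

theorem sq_coords {p : Co F} (h : N p * N p = 1) : mulC p p = ⟨0, 0, 0, 0, 0, 0⟩ :=
  N_injective (by rw [← N_mul, h, N_one])

/-- The two representatives. -/
def Normal (g : GL chevG2.Idx F) : Prop := Conj g (x 11 1) ∨ Conj g (x 9 1)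

omit [CharP F 2] in
theorem Normal.of_conj {g g' : GL chevG2.Idx F} (h1 : Conj g g') (h2 : Normal g') : Normal g :=
  h2.imp h1.trans h1.trans

omit [CharP F 2] in
theorem conj_x9 {d : F} (hd : d ≠ 0) : Conj (x 9 d) (x 9 1) := by
  refine ⟨tor 0 (Units.mk0 d hd)⁻¹, tor_mem_group _ _, ?_⟩
  rw [tor_conj_x _ _ _ (by decide +kernel)]
  simp [hd]

omit [CharP F 2] in
theorem conj_x11 {d : F} (hd : d ≠ 0) : Conj (x 11 d) (x 11 1) := by
  refine ⟨tor 1 (Units.mk0 d hd)⁻¹, tor_mem_group _ _, ?_⟩
  rw [tor_conj_x _ _ _ (by decide +kernel)]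
  simp [hd]

/-- Elements of the coset `x₉(d) X₁₀ X₁₁`. -/
theorem normal_nine {p : Co F} (ha : p.a = 0) (hb : p.b = 0) (hc : p.c = 0) (hd : p.d ≠ 0) :
    Normal (N p) := by
  refine Normal.of_conj (g' := x 9 p.d) ?_ (.inr (conj_x9 hd))
  rw [x9_eq]
  refine conj_of_mulC (v := ⟨0, p.e / p.d, p.f / p.d, 0, 0, 0⟩) ?_
  ext <;> simp [mulC, ha, hb, hc, CharTwo.add_self_eq_zero] <;> field_simp

/-- The nonidentity elements of `X₁₀ X₁₁`. -/
theorem normal_long {p : Co F} (ha : p.a = 0) (hb : p.b = 0) (hc : p.c = 0) (hd : p.d = 0)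
    (hne : p.e ≠ 0 ∨ p.f ≠ 0) : Normal (N p) := by
  by_cases he : p.e = 0
  · have hf := hne.resolve_left (not_not.2 he)
    rw [show N p = x 11 p.f by simp [N, ha, hb, hc, hd, he, x_zero]]
    exact .inl (conj_x11 hf)
  · have h1 : Conj (N p) (x 10 p.e) := by
      rw [show x 10 p.e = N (⟨0, 0, 0, 0, p.e, 0⟩ : Co F) by simp [N, x_zero]]
      refine conj_of_mulC (v := ⟨p.f / p.e, 0, 0, 0, 0, 0⟩) ?_
      ext <;> simp [mulC, ha, hb, hc, hd]
      field_simp
    refine Normal.of_conj (h1.trans (Conj.of_mem (nR_mem_group (F := F) 1) _)) ?_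
    rw [nR_conj_x 1 (k' := 11) (by decide +kernel)]
    exact .inl (conj_x11 he)

/-- Involutions with `a = 0` and `b ≠ 0`. -/
theorem normal_seven [Finite F] {p : Co F} (hsq : N p * N p = 1) (ha : p.a = 0) (hb : p.b ≠ 0) :
    Normal (N p) := by
  obtain ⟨r, hr⟩ := exists_mulC_eq (⟨p.c / p.b, 0, 0, 0, 0, 0⟩ : Co F) p
  have ra : r.a = 0 := by
    have := congrArg Co.a hr; simp [mulC, ha] at this; exact this
  have rb : r.b = p.b := by
    have := congrArg Co.b hr; simp [mulC] at this; exact this.symm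
  have rc : r.c = 0 := by
    have := congrArg Co.c hr
    simp [mulC, ha, rb] at this
    rw [div_mul_cancel₀ _ hb] at this
    linear_combination -this
  refine Normal.of_conj (conj_of_mulC hr) ?_
  have hsq' := (conj_of_mulC hr).sq_eq_one hsq
  have rd : r.d = 0 := by
    have := congrArg Co.e (sq_coords hsq')
    simp [mulC, ra, rb, rc] at this
    rcases (show p.b * r.d = 0 by linear_combination this - r.e * CharTwo.two_eq_zero (R := F))
      |> mul_eq_zero.1 with h | h
    · exact absurd h hb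
    · exact h
  obtain ⟨s, hs⟩ : IsSquare (r.f / p.b) := FiniteField.isSquare_of_char_two (ringChar.eq F 2) _
  set w := (r.e + p.b ^ 2 * s) / p.b with hw
  have hsb : p.b * s * s = r.f := by
    rw [mul_assoc, ← hs]; field_simp
  have hwb : p.b * w = r.e + p.b ^ 2 * s := by rw [hw]; field_simp
  have h1 : Conj (N r) (x 7 p.b) := by
    rw [show x 7 p.b = N (⟨0, p.b, 0, 0, 0, 0⟩ : Co F) by simp [N, x_zero]]
    refine conj_of_mulC (v := ⟨0, 0, s, w, 0, 0⟩) ?_
    ext <;> simp [mulC, ra, rb, rc, rd]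
    · linear_combination hwb + (r.e + p.b ^ 2 * s) * CharTwo.two_eq_zero (R := F)
    · linear_combination hsb + r.f * CharTwo.two_eq_zero (R := F)
  refine Normal.of_conj (h1.trans (Conj.of_mem (nR_mem_group (F := F) 1) _)) ?_
  rw [nR_conj_x 1 (k' := 8) (by decide +kernel)]
  refine Normal.of_conj (Conj.of_mem (nR_mem_group (F := F) 0) _) ?_
  rw [nR_conj_x 0 (k' := 9) (by decide +kernel)]
  exact .inr (conj_x9 hb)

omit [CharP F 2] in
theorem nR_conj_mul (i : Fin 2) (g g' : GL chevG2.Idx F) :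
    n i * (g * g') * (n i)⁻¹ = (n i * g * (n i)⁻¹) * (n i * g' * (n i)⁻¹) := by group

/-- Involutions with `a = 0`. -/
theorem normal_unipotentRadical [Finite F] {p : Co F} (hsq : N p * N p = 1) (ha : p.a = 0)
    (hne : N p ≠ 1) : Normal (N p) := by
  by_cases hb : p.b = 0
  swap
  · exact normal_seven hsq ha hb
  by_cases hc : p.c = 0
  · by_cases hd : p.d = 0
    · refine normal_long ha hb hc hd ?_
      by_contra h
      simp only [not_or, not_not] at h
      exact hne (by rw [show p = ⟨0, 0, 0, 0, 0, 0⟩ from Co.ext ha hb hc hd h.1 h.2, N_one])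
    · exact normal_nine ha hb hc hd
  · have h1 : Conj (N p) (N (⟨0, p.c, 0, p.d, p.f, p.e⟩ : Co F)) := by
      refine ⟨n 1, nR_mem_group 1, ?_⟩
      simp only [N, ha, hb, x_zero, one_mul, mul_one]
      simp only [nR_conj_mul]
      rw [nR_conj_x 1 (k' := 7) (by decide +kernel), nR_conj_x 1 (k' := 9) (by decide +kernel),
        nR_conj_x 1 (k' := 11) (by decide +kernel), nR_conj_x 1 (k' := 10) (by decide +kernel),
        x_swap 11 10 (by decide +kernel)]
    exact Normal.of_conj h1 (normal_seven (h1.sq_eq_one hsq) rfl hc)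

/-- Every involution of `U` is conjugate to one of the representatives. -/
theorem normal_of_sq [Finite F] {p : Co F} (hsq : N p * N p = 1) (hne : N p ≠ 1) :
    Normal (N p) := by
  by_cases ha : p.a = 0
  · exact normal_unipotentRadical hsq ha hne
  have hb : p.b = 0 := by
    have := congrArg Co.c (sq_coords hsq)
    simp [mulC] at this
    rcases (show p.a * p.b = 0 by linear_combination this - p.c * CharTwo.two_eq_zero (R := F))
      |> mul_eq_zero.1 with h | h
    · exact absurd h ha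
    · exact h
  obtain ⟨r, hr⟩ := exists_mulC_eq (⟨0, p.c / p.a, 0, 0, 0, 0⟩ : Co F) p
  have ra : r.a = p.a := by
    have := congrArg Co.a hr; simp [mulC] at this; exact this.symm
  have rb : r.b = 0 := by
    have := congrArg Co.b hr; simp [mulC, hb] at this; exact this
  have rc : r.c = 0 := by
    have := congrArg Co.c hr
    simp [mulC, ra, rb] at this
    rw [mul_div_cancel₀ _ ha] at this
    linear_combination -this + p.c * CharTwo.two_eq_zero (R := F)
  refine Normal.of_conj (conj_of_mulC hr) ?_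
  have hsq' := (conj_of_mulC hr).sq_eq_one hsq
  have re : r.e = 0 := by
    have := congrArg Co.f (sq_coords hsq')
    simp [mulC, ra, rb, rc] at this
    rcases (show p.a * r.e = 0 by linear_combination this - r.f * CharTwo.two_eq_zero (R := F))
      |> mul_eq_zero.1 with h | h
    · exact absurd h ha
    · exact h
  have h1 : Conj (N r) (N (⟨0, 0, r.d, 0, p.a, r.f⟩ : Co F)) := by
    refine ⟨n 0, nR_mem_group 0, ?_⟩
    simp only [N, ra, rb, rc, re, x_zero, one_mul, mul_one]
    simp only [nR_conj_mul]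
    rw [nR_conj_x 0 (k' := 10) (by decide +kernel), nR_conj_x 0 (k' := 8) (by decide +kernel),
      nR_conj_x 0 (k' := 11) (by decide +kernel), (x_commute 10 8 (by decide +kernel) _ _).eq]
  refine Normal.of_conj h1 (normal_unipotentRadical (h1.sq_eq_one hsq') rfl fun e => ?_)
  exact ha (congrArg Co.e (N_injective (e.trans N_one.symm)))

end CfsgLib.ChevInvol.G2
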