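import Cfsg.Agent.ChevInvol.RootCentralizer
import Cfsg.Agent.Chevalley.UnipotentMain
import Cfsg.Agent.Chevalley.WeylData
import Cfsg.Agent.Weyl.RootG2

/-!
# Coordinates on the unipotent subgroup of type G₂ in characteristic two
-/

set_option autoImplicit false

namespace CfsgLib.ChevInvol.G2

open Cfsg.Lie CfsgLib.Chevalley

theorem gW : GoodWeyl chevG2 := goodWeyl_of_mem (by simp)

variable {F : Type*} [Field F]

/-- The root element of the root with index `k`. -/
def x (k : Fin 12) (t : F) : GL chevG2.Idx F := X gW.good (k : Root chevG2) t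

theorem x_zero (k : Fin 12) : x k (0 : F) = 1 := X_zero _ _

theorem x_mul (k : Fin 12) (t u : F) : x k t * x k u = x k (t + u) := X_mul _ _ _ _

variable [CharP F 2]

theorem three_eq_one : (3 : F) = 1 := by
  have := CharTwo.two_eq_zero (R := F)
  linear_combination this

omit [CharP F 2] in
theorem x_add (k : Fin 12) (t u : F) (z : GL chevG2.Idx F) :
    z * x k t * x k u = z * x k (t + u) := by
  rw [mul_assoc, x_mul]

/-- Roots whose commutator formula vanishes in characteristic two. -/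
theorem x_commute (r s : Fin 12) (h : ((r != s) && (s != r.rev) &&
    (chevG2.commTerms r s).all fun c => decide ((2 : ℤ) ∣ c.2.1)) = true) (t u : F) :
    Commute (x r t) (x s u) := by
  simp only [Bool.and_eq_true, bne_iff_ne, List.all_eq_true, decide_eq_true_eq] at h
  exact commute_of_terms gW.toGoodComm (r := (r : Root chevG2)) (s := (s : Root chevG2))
    (fun e => h.1.1 e.symm) h.1.2
    (fun c hc => (CharP.intCast_eq_zero_iff F 2 _).2 (by exact_mod_cast h.2 c hc)) t u

theorem x_swap (r s : Fin 12) (h : ((r != s) && (s != r.rev) &&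
    (chevG2.commTerms r s).all fun c => decide ((2 : ℤ) ∣ c.2.1)) = true) (t u : F)
    (z : GL chevG2.Idx F) : z * x r t * x s u = z * x s u * x r t := by
  rw [mul_assoc, (x_commute r s h t u).eq, mul_assoc]

omit [CharP F 2] in
theorem rule {r s : Fin 12} (hrs : s ≠ r) (hne : s ≠ r.rev)
    {L : List (ℕ × ℤ × ℕ × ℕ)} (hL : chevG2.commTerms r s = L) (t u : F)
    (z : GL chevG2.Idx F) :
    z * x s u * x r t = z * x r t * x s u * wordGL gW.good
      (L.map fun c => (c.1, (c.2.1 : F) * (-t) ^ c.2.2.1 * u ^ c.2.2.2)) := by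
  have h := X_comm gW.toGoodComm (r : Root chevG2) (s : Root chevG2) hrs hne (R := F) t u
  unfold x
  rw [mul_assoc z, h, ← mul_assoc, ← mul_assoc]
  congr 1
  subst hL
  rfl

theorem rule67 (t u : F) (z : GL chevG2.Idx F) : z * x 7 u * x 6 t =
    z * x 6 t * x 7 u * (x 8 (t * u) * x 9 (t * u ^ 2) * x 10 (t * u ^ 3)) := by
  rw [rule (r := 6) (s := 7) (by decide) (by decide)
    (L := [(8, 1, 1, 1), (9, 1, 1, 2), (10, -1, 1, 3), (11, -2, 2, 3)]) (by decide +kernel)]
  simp [wordGL, CharTwo.neg_eq, CharTwo.two_eq_zero, mul_assoc, X_zero, x]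
  rfl

theorem rule78 (t u : F) (z : GL chevG2.Idx F) : z * x 8 u * x 7 t =
    z * x 7 t * x 8 u * (x 10 (t ^ 2 * u) * x 11 (t * u ^ 2)) := by
  rw [rule (r := 7) (s := 8) (by decide) (by decide)
    (L := [(9, -2, 1, 1), (10, -3, 2, 1), (11, 3, 1, 2)]) (by decide +kernel)]
  simp [wordGL, CharTwo.neg_eq, CharTwo.two_eq_zero, three_eq_one, mul_assoc, X_zero, x]
  rfl

theorem rule79 (t u : F) (z : GL chevG2.Idx F) : z * x 9 u * x 7 t =
    z * x 7 t * x 9 u * x 10 (t * u) := by
  rw [rule (r := 7) (s := 9) (by decide) (by decide)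
    (L := [(10, 3, 1, 1)]) (by decide +kernel)]
  simp [wordGL, CharTwo.neg_eq, three_eq_one, x]
  rfl

theorem rule89 (t u : F) (z : GL chevG2.Idx F) : z * x 9 u * x 8 t =
    z * x 8 t * x 9 u * x 11 (t * u) := by
  rw [rule (r := 8) (s := 9) (by decide) (by decide)
    (L := [(11, 3, 1, 1)]) (by decide +kernel)]
  simp [wordGL, CharTwo.neg_eq, three_eq_one, x]
  rfl

theorem rule610 (t u : F) (z : GL chevG2.Idx F) : z * x 10 u * x 6 t =
    z * x 6 t * x 10 u * x 11 (t * u) := by
  rw [rule (r := 6) (s := 10) (by decide) (by decide)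
    (L := [(11, 1, 1, 1)]) (by decide +kernel)]
  simp [wordGL, CharTwo.neg_eq, x]
  rfl

/-- Coordinates on `U`. -/
@[ext] structure Co (F : Type*) where
  a : F
  b : F
  c : F
  d : F
  e : F
  f : F

/-- The element with given coordinates. -/
def N (p : Co F) : GL chevG2.Idx F :=
  x 6 p.a * x 7 p.b * x 8 p.c * x 9 p.d * x 10 p.e * x 11 p.f

/-- The product in coordinates. -/
def mulC (p q : Co F) : Co F :=
  let c1 := q.a * p.b + p.c
  let d1 := q.a * p.b ^ 2 + p.d
  let e1 := q.a * p.b ^ 3 + p.e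
  let f1 := p.f + q.a * p.e + p.c * (q.a * p.b ^ 2)
  ⟨p.a + q.a, p.b + q.b, c1 + q.c, d1 + q.d, e1 + q.b * d1 + q.b ^ 2 * c1 + q.e,
    f1 + q.b * c1 ^ 2 + q.c * d1 + q.f⟩

omit [CharP F 2] in
theorem N_mul11 (p : Co F) (t : F) : N p * x 11 t = N { p with f := p.f + t } := by
  simp only [N, mul_assoc, x_mul]

theorem N_mul10 (p : Co F) (t : F) : N p * x 10 t = N { p with e := p.e + t } := by
  simp only [N]
  rw [x_swap 11 10 (by decide +kernel), x_add]

theorem N_mul9 (p : Co F) (t : F) : N p * x 9 t = N { p with d := p.d + t } := by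
  simp only [N]
  rw [x_swap 11 9 (by decide +kernel), x_swap 10 9 (by decide +kernel), x_add]

theorem N_mul8 (p : Co F) (t : F) :
    N p * x 8 t = N { p with c := p.c + t, f := p.f + t * p.d } := by
  simp only [N]
  rw [x_swap 11 8 (by decide +kernel), x_swap 10 8 (by decide +kernel), rule89, x_add,
    x_swap 11 10 (by decide +kernel), x_add, add_comm (t * p.d)]

theorem N_mul7 (p : Co F) (t : F) : N p * x 7 t =
    N { p with b := p.b + t, e := p.e + t * p.d + t ^ 2 * p.c, f := p.f + t * p.c ^ 2 } := by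
  simp only [N]
  rw [x_swap 11 7 (by decide +kernel), x_swap 10 7 (by decide +kernel), rule79, rule78, x_add]
  simp only [← mul_assoc]
  rw [x_swap 11 9 (by decide +kernel), x_swap 10 9 (by decide +kernel),
    x_swap 11 10 (by decide +kernel), x_add, x_add, x_add]
  ring_nf

theorem N_mul6 (p : Co F) (t : F) : N p * x 6 t =
    N (⟨p.a + t, p.b, t * p.b + p.c, t * p.b ^ 2 + p.d, t * p.b ^ 3 + p.e,
      p.f + t * p.e + p.c * (t * p.b ^ 2)⟩ : Co F) := by
  have key : N p * x 6 t = N (⟨p.a + t, p.b, t * p.b, t * p.b ^ 2, t * p.b ^ 3, 0⟩ : Co F) *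
      x 8 p.c * x 9 p.d * x 10 p.e * x 11 (t * p.e + p.f) := by
    simp only [N, x_zero, mul_one]
    rw [x_swap 11 6 (by decide +kernel), rule610, x_swap 9 6 (by decide +kernel),
      x_swap 8 6 (by decide +kernel), rule67, x_add]
    simp only [← mul_assoc]
    rw [x_mul]
  rw [key, N_mul8, N_mul9, N_mul10, N_mul11]
  congr 1
  ext <;> simp <;> ring

theorem N_mul (p q : Co F) : N p * N q = N (mulC p q) := by
  conv_lhs => rw [show N q = x 6 q.a * x 7 q.b * x 8 q.c * x 9 q.d * x 10 q.e * x 11 q.f from rfl]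
  simp only [← mul_assoc]
  rw [N_mul6, N_mul7, N_mul8, N_mul9, N_mul10, N_mul11]
  congr 1

omit [CharP F 2] in
theorem N_one : N (⟨0, 0, 0, 0, 0, 0⟩ : Co F) = 1 := by simp [N, x_zero]

/-- The coordinates as a function of the index. -/
def coFun (p : Co F) (j : ℕ) : F := [p.a, p.b, p.c, p.d, p.e, p.f].getD (j - 6) 0

omit [CharP F 2] in
theorem N_eq_prodFrom (p : Co F) : N p = prodFrom gW.good false (coFun p) 6 6 := by
  simp only [prodFrom, show List.range' 6 6 = [6, 7, 8, 9, 10, 11] from rfl, List.map_cons,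
    List.map_nil, List.prod_cons, List.prod_nil, mul_one, N]
  rw [rootOf_false _ (by decide), rootOf_false _ (by decide), rootOf_false _ (by decide),
    rootOf_false _ (by decide), rootOf_false _ (by decide), rootOf_false _ (by decide)]
  simp only [mul_assoc]
  rfl

omit [CharP F 2] in
theorem half_eq : half chevG2 = 6 := rfl

omit [CharP F 2] in
theorem N_injective : Function.Injective (N : Co F → GL chevG2.Idx F) := by
  intro p q h
  rw [N_eq_prodFrom, N_eq_prodFrom] at h
  have := prodFrom_injective gW.toGoodUni 6 6 half_eq.le rfl _ _ h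
  ext
  exacts [this 6 le_rfl (by omega), this 7 (by omega) (by omega), this 8 (by omega) (by omega),
    this 9 (by omega) (by omega), this 10 (by omega) (by omega), this 11 (by omega) (by omega)]

omit [CharP F 2] in
theorem exists_N {g : GL chevG2.Idx F} (hg : g ∈ chevG2.posUnipotent F) : ∃ p, N p = g := by
  rw [posUnipotent_eq gW.good] at hg
  obtain ⟨t, ht⟩ := exists_prodFrom gW.toGoodComm 6 6 half_eq.le rfl g hg
  refine ⟨⟨t 6, t 7, t 8, t 9, t 10, t 11⟩, ?_⟩
  rw [N_eq_prodFrom, ← ht]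
  refine prodFrom_congr gW.good fun j hj hj' => ?_
  rcases (by omega : j = 6 ∨ j = 7 ∨ j = 8 ∨ j = 9 ∨ j = 10 ∨ j = 11) with
    rfl | rfl | rfl | rfl | rfl | rfl <;> rfl

omit [CharP F 2] in
theorem N_mem_pos (p : Co F) : N p ∈ chevG2.posUnipotent F := by
  rw [N_eq_prodFrom, posUnipotent_eq gW.good]
  exact prodFrom_mem _ _ half_eq.le (by rfl)

end CfsgLib.ChevInvol.G2
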