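import Cfsg.Agent.ChevTorus.Generators
import Cfsg.Agent.Chevalley.Monomial
import Cfsg.Prelude.Def_ChevAutomorphisms
import Cfsg.Prelude.Def_ChevD4
import Cfsg.Prelude.Def_ChevE6

/-!
# Graph automorphisms act on all root elements by signs
-/

set_option autoImplicit false

namespace CfsgLib.ChevInvol

open Cfsg.Lie CfsgLib.Chevalley

variable {D : ChevalleyDatum} {F : Type*} [Field F]

/-- One root length, and the coroot determines the root. -/
def simplyLacedOk (D : ChevalleyDatum) : Bool :=
  ((List.range D.rank).all fun l => (List.range D.rank).all fun i =>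
    decide (l = i) || decide (D.cartan l (D.simple i) = -D.bonds l i)) &&
  decide ((List.range D.nroots).map fun r =>
    (List.range D.rank).map fun k => (D.coroot.getD r #[]).getD k 0).Nodup

theorem simplyLacedD4 : simplyLacedOk chevD4 = true := by decide +kernel

theorem simplyLacedE6 : simplyLacedOk chevE6 = true := by decide +kernel

theorem co_injective (hok : simplyLacedOk D = true) {r s : Root D}
    (h : ∀ k, ChevTorus.co D r k = ChevTorus.co D s k) : r = s := by
  simp only [simplyLacedOk, Bool.and_eq_true, decide_eq_true_eq] at hok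
  refine Fin.ext (List.inj_on_of_nodup_map hok.2 (List.mem_range.2 r.isLt) (List.mem_range.2 s.isLt) ?_)
  exact List.map_congr_left fun k hk => h ⟨k, List.mem_range.1 hk⟩

theorem cartan_symm (hW : GoodWeyl D) (hok : simplyLacedOk D = true)
    {π : Equiv.Perm (Fin D.rank)} (hπ : D.IsDiagramSymmetry π) (l i : Fin D.rank) :
    D.cartan (π l) (D.simple (π i)) = D.cartan l (D.simple i) := by
  by_cases hli : l = i
  · subst hli; rw [hW.good.cartan_simple_self l.isLt, hW.good.cartan_simple_self (π l).isLt]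
  · simp only [simplyLacedOk, Bool.and_eq_true, Bool.or_eq_true, List.all_eq_true, List.mem_range,
      decide_eq_true_eq] at hok
    have h1 := (hok.1 l l.isLt i i.isLt).resolve_left (fun e => hli (Fin.ext e))
    have h2 := (hok.1 (π l) (π l).isLt (π i) (π i).isLt).resolve_left
      (fun e => hli (π.injective (Fin.ext e)))
    rw [h1, h2, hπ l i hli]

theorem graph_signs (hW : GoodWeyl D) (hok : simplyLacedOk D = true)
    {π : Equiv.Perm (Fin D.rank)} (hπ : D.IsDiagramSymmetry π)
    (φ : ↥(D.group F) ≃* ↥(D.group F))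
    (hφ : ∀ (g : ↥(D.group F)) (i : Fin D.rank) (t : F),
      (((g : GL D.Idx F) : Matrix D.Idx D.Idx F) = D.x F (D.simple i) t →
        ((φ g : GL D.Idx F) : Matrix D.Idx D.Idx F) = D.x F (D.simple (π i)) t) ∧
      (((g : GL D.Idx F) : Matrix D.Idx D.Idx F) = D.x F (D.neg (D.simple i)) t →
        ((φ g : GL D.Idx F) : Matrix D.Idx D.Idx F) = D.x F (D.neg (D.simple (π i))) t))
    (r : ℕ) (hr : r < D.nroots) :
    ∃ ε : F, (ε = 1 ∨ ε = -1) ∧ ∀ (g : ↥(D.group F)) (t : F),
      ((g : GL D.Idx F) : Matrix D.Idx D.Idx F) = D.x F r t →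
        ((φ g : GL D.Idx F) : Matrix D.Idx D.Idx F) = D.x F (D.permRoot π r) (ε * t) := by
  have hD := hW.good
  let Xg : Root D → F → ↥(D.group F) := fun r t => ⟨X hD r t, X_mem_group hD r t⟩
  have hp : ∀ i t, (φ (Xg (pRoot hW i) t) : GL D.Idx F) = X hD (pRoot hW (π i)) t := by
    intro i t
    exact (coe_eq_x_iff hD (pRoot hW (π i)).isLt).1
      ((hφ (Xg (pRoot hW i) t) i t).1 ((coe_eq_x_iff hD (pRoot hW i).isLt).2 rfl))
  have hn : ∀ i t, (φ (Xg (pRoot hW i).rev t) : GL D.Idx F) = X hD (pRoot hW (π i)).rev t := by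
    intro i t
    have e : ∀ j, D.neg (D.simple (j : Fin D.rank)) = ((pRoot hW j).rev : ℕ) :=
      fun j => hD.neg_fin (pRoot hW j)
    have h := (hφ (Xg (pRoot hW i).rev t) i t).2
      (by rw [e]; exact (coe_eq_x_iff hD (pRoot hW i).rev.isLt).2 rfl)
    rw [e] at h
    exact (coe_eq_x_iff hD (pRoot hW (π i)).rev.isLt).1 h
  let ng : Fin D.rank → ↥(D.group F) := fun i =>
    Xg (pRoot hW i) 1 * Xg (pRoot hW i).rev (-1) * Xg (pRoot hW i) 1
  have hng : ∀ i, (φ (ng i) : GL D.Idx F) = nR hW (π i) := by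
    intro i
    simp only [ng, map_mul, Subgroup.coe_mul, hp, hn, nR]
  have hX : ∀ i v t, Xg (wPerm hW i v) t = ng i * Xg v ((eta D i v : F) * t) * (ng i)⁻¹ := by
    intro i v t
    exact Subtype.ext (ChevTorus.X_wPerm_eq hW i v t)
  have key : ∀ v : Root D, ∃ s : Root D,
      (∀ k, ChevTorus.co D s (π k) = ChevTorus.co D v k) ∧
      ∃ ε : F, (ε = 1 ∨ ε = -1) ∧ ∀ t, (φ (Xg v t) : GL D.Idx F) = X hD s (ε * t) := by
    intro v
    refine hW.root_induction (P := fun v => ∃ s : Root D,
      (∀ k, ChevTorus.co D s (π k) = ChevTorus.co D v k) ∧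
      ∃ ε : F, (ε = 1 ∨ ε = -1) ∧ ∀ t, (φ (Xg v t) : GL D.Idx F) = X hD s (ε * t))
      (fun i => ⟨pRoot hW (π i), fun k => ?_, 1, .inl rfl, fun t => by rw [one_mul, hp]⟩) ?_ v
    · rw [ChevTorus.co_pRoot hW, ChevTorus.co_pRoot hW]
      simp
    rintro i v ⟨s, hs, ε, hε, hφs⟩
    refine ⟨wPerm hW (π i) s, fun k => ?_, (eta D (π i) s : F) * ε * (eta D i v : F), ?_,
      fun t => ?_⟩
    · rw [ChevTorus.co_wPerm hW, ChevTorus.co_wPerm hW, hs]
      congr 1
      simp only [π.injective.eq_iff]
      split_ifs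
      · rw [pairing_eq_sum, pairing_eq_sum, ← Equiv.sum_comp π]
        refine Finset.sum_congr rfl fun l _ => ?_
        show ChevTorus.co D s (π l) * D.cartan (π l) (D.simple (π i)) = _
        rw [hs, cartan_symm hW hok hπ]
        rfl
      · rfl
    · have h1 : ∀ (j : Fin D.rank) (w : Root D), (eta D j w : F) = 1 ∨ (eta D j w : F) = -1 := by
        intro j w
        rcases Int.eq_one_or_neg_one_of_mul_eq_one (hW.eta_sq j w) with e | e <;> simp [e]
      rcases hε with rfl | rfl <;> rcases h1 (π i) s with e | e <;>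
        rcases h1 i v with e' | e' <;> simp [e, e']
    · rw [hX, map_mul, map_mul, map_inv, Subgroup.coe_mul, Subgroup.coe_mul, Subgroup.coe_inv,
        hng, hφs, nR_conj]
      congr 1
      ring
  obtain ⟨s, hs, ε, hε, hφs⟩ := key ⟨r, hr⟩
  have hperm : D.permRoot π r = s := by
    have hmem : ((List.finRange D.rank).all fun i =>
        (D.coroot.getD s #[]).getD (π i).val 0 == (D.coroot.getD r #[]).getD i.val 0) = true := by
      simp only [List.all_eq_true, List.mem_finRange, beq_iff_eq, forall_const]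
      exact hs
    obtain ⟨s', hs'⟩ : ∃ s', ((List.range D.nroots).find? fun s => (List.finRange D.rank).all fun i =>
        (D.coroot.getD s #[]).getD (π i).val 0 == (D.coroot.getD r #[]).getD i.val 0) = some s' :=
      Option.isSome_iff_exists.1 (List.find?_isSome.2 ⟨s, List.mem_range.2 s.isLt, hmem⟩)
    rw [ChevalleyDatum.permRoot, hs', Option.getD_some]
    have h1 := List.find?_some hs'
    have h2 := List.mem_range.1 (List.mem_of_find?_eq_some hs')
    simp only [List.all_eq_true, List.mem_finRange, beq_iff_eq, forall_const] at h1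
    exact congrArg Fin.val (co_injective hok (r := ⟨s', h2⟩) (s := s) fun k => by
      obtain ⟨k', rfl⟩ := π.surjective k
      rw [hs]
      exact h1 k')
  refine ⟨ε, hε, fun g t hg => ?_⟩
  rw [show g = Xg ⟨r, hr⟩ t from Subtype.ext ((coe_eq_x_iff hD hr).1 hg), hperm]
  exact (coe_eq_x_iff hD s.isLt).2 (hφs t)

end CfsgLib.ChevInvol
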