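import Cfsg.Agent.ChevInvol.RootPairs
import Cfsg.Prelude.Def_ChevG2
import Cfsg.Prelude.Def_ChevD4
import Cfsg.Prelude.Def_ChevE6
import Cfsg.Prelude.Def_ChevE7
import Cfsg.Prelude.Def_ChevE8

/-!
# Table checks for pairs of long root subgroups
-/

set_option autoImplicit false

namespace CfsgLib.ChevInvol

open Cfsg.Lie

set_option maxRecDepth 100000
set_option maxHeartbeats 2000000

/-- The long roots of G2. -/
def longG2 (r : ℕ) : Bool := [0, 1, 5, 6, 10, 11].contains r

theorem pairsG2 : pairsOk chevG2 11 longG2 = true ∧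
    (∀ i < 2, ∀ r < 12, longG2 r = true → longG2 (chevG2.reflectRoot i r) = true) := by
  decide +kernel

theorem pairsD4 : pairsOk chevD4 23 (fun _ => true) = true := by decide +kernel

theorem pairsE6 : pairsOk chevE6 71 (fun _ => true) = true := by decide +kernel

theorem pairsE7 : pairsOk chevE7 125 (fun _ => true) = true := by decide +kernel

theorem pairsE8 : pairsOk chevE8 239 (fun _ => true) = true := by decide +kernel

open CfsgLib.Chevalley in
/-- The dichotomy for the last root. -/
theorem pair_dichotomy_last {D : ChevalleyDatum} {F : Type*} [Field F] [CharP F 2]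
    {C : Weyl.Cert D.rank} {M : CoxeterMatrix (Fin D.rank)} {R : Weyl.RootTable}
    (hW : GoodWeyl D) (h : Weyl.RootGood C M R) {P : ℕ → Bool}
    (hP : ∀ (i : Fin D.rank) (r : Root D), P r = true → P (D.reflectRoot i r) = true)
    (haP : P (D.nroots - 1) = true) (hok : pairsOk D (D.nroots - 1) P = true)
    {g : GL D.Idx F} (hg : g ∈ D.group F) :
    IsPGroup 2 ↥(D.rootSubgroup F (D.nroots - 1) ⊔
      (D.rootSubgroup F (D.nroots - 1)).map (MulAut.conj g).toMonoidHom) ∨
    ∃ k ∈ D.group F, (D.rootSubgroup F (D.nroots - 1) ⊔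
      (D.rootSubgroup F (D.nroots - 1)).map (MulAut.conj g).toMonoidHom).map
        (MulAut.conj k).toMonoidHom =
      D.rootSubgroup F (D.nroots - 1) ⊔ D.rootSubgroup F 0 := by
  have h1 := hW.good.two_half
  have h2 := hW.good.basic'.1.2.1
  have := pair_dichotomy hW h hP (a := ⟨D.nroots - 1, by omega⟩) haP
    (show half D ≤ D.nroots - 1 by omega) hok hg
  rwa [show (((⟨D.nroots - 1, by omega⟩ : Root D).rev : Root D) : ℕ) = 0 by
    rw [Fin.val_rev]; simp only; omega] at this

end CfsgLib.ChevInvol
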