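import Cfsg.Agent.ChevInvol.Support
import Cfsg.Agent.ChevInvol.RootCentralizer
import Cfsg.Agent.Chevalley.UnipotentMain
import Mathlib.Algebra.CharP.Two

/-!
# An abelian last term of the series; normalizing root subgroups
-/

set_option autoImplicit false

namespace CfsgLib.ChevInvol

open Cfsg.Lie CfsgLib.Chevalley

variable {D : ChevalleyDatum} {F : Type*} [Field F]

/-- The commutator terms of `(a, s)` with odd coefficient have their root in `T`. -/
def oddTermsIn (D : ChevalleyDatum) (a s : ℕ) (T : ℕ → Bool) : Bool :=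
  decide (a = s) || (decide (s ≠ D.neg a) &&
    (D.commTerms a s).all fun c => decide ((2 : ℤ) ∣ c.2.1) || T c.1)

/-- No commutator term of `(a, s)` has odd coefficient. -/
def commOk (D : ChevalleyDatum) (a s : ℕ) : Bool := oddTermsIn D a s fun _ => false

theorem commRhs_mem_of_oddTermsIn [CharP F 2] (hD : Good D) {a s : Root D} {T : ℕ → Bool}
    (hne : s ≠ a) (h : oddTermsIn D a s T = true) (t u : F) :
    s ≠ a.rev ∧ commRhs hD a s t u ∈ rootGen hD F {r | T r = true} := by
  simp only [oddTermsIn, Bool.or_eq_true, decide_eq_true_eq, Bool.and_eq_true,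
    List.all_eq_true] at h
  obtain ⟨h1, h2⟩ := h.resolve_left fun e => hne (Fin.ext e.symm)
  refine ⟨fun e => h1 ((congrArg Fin.val e).trans (hD.neg_fin a).symm), ?_⟩
  refine Subgroup.list_prod_mem _ fun g hg => ?_
  obtain ⟨p, hp, rfl⟩ := List.mem_map.1 hg
  obtain ⟨c, hc, rfl⟩ := List.mem_map.1 hp
  simp only
  split
  · rename_i hlt
    rcases h2 c hc with he | he
    · rw [(CharP.intCast_eq_zero_iff F 2 _).2 (by exact_mod_cast he), zero_mul, zero_mul, X_zero]
      exact one_mem _
    · exact X_mem_rootGen hD (S := {r | T r = true}) (r := ⟨c.1, hlt⟩) he _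
  · exact one_mem _

theorem commute_of_commOk [CharP F 2] (hC : GoodComm D) {a s : Root D} (h : commOk D a s = true)
    (t u : F) : Commute (X hC.good a t) (X hC.good s u) := by
  by_cases hne : s = a
  · subst hne; exact X_add_comm _ _ _ _
  obtain ⟨h1, h2⟩ := commRhs_mem_of_oddTermsIn hC.good hne h t u
  rw [show ({r : Root D | (fun _ => false) (r : ℕ) = true} : Set (Root D)) = ∅ by simp, rootGen,
    show {g : GL D.Idx F | ∃ r ∈ (∅ : Set (Root D)), ∃ t : F, X hC.good r t = g} = ∅ by simp,
    Subgroup.closure_empty, Subgroup.mem_bot] at h2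
  have h3 := X_comm hC a s hne h1 t u
  rw [h2, mul_one] at h3
  exact h3.symm

/-- Conjugating a root element by another adds terms from `T`. -/
theorem inv_conj_mem [CharP F 2] (hC : GoodComm D) {a s : Root D} {T : ℕ → Bool}
    (h : oddTermsIn D a s T = true) (t u : F) :
    (X hC.good s u)⁻¹ * ((X hC.good a t)⁻¹ * X hC.good s u * X hC.good a t) ∈
      rootGen hC.good F {r | T r = true} := by
  by_cases hne : s = a
  · subst hne
    rw [X_inv, X_inv, X_mul, X_mul, X_mul, show -u + (-t + u + t) = (0 : F) by ring, X_zero]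
    exact one_mem _
  obtain ⟨h1, h2⟩ := commRhs_mem_of_oddTermsIn hC.good hne h t u
  rw [mul_assoc _ (X hC.good s u), X_comm hC a s hne h1 t u]
  simpa [mul_assoc] using h2

/-- The roots of `T` are permuted into `T` by the root subgroup of `a`. -/
def closOk (D : ChevalleyDatum) (a : ℕ) (T : ℕ → Bool) : Bool :=
  (List.range D.nroots).all fun s => !T s || oddTermsIn D a s T

theorem X_mem_normalizer [CharP F 2] (hC : GoodComm D) {a : Root D} {T : ℕ → Bool}
    (h : closOk D a T = true) (t : F) :
    X hC.good a t ∈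
      Subgroup.normalizer (rootGen hC.good F {r | T r = true} : Set (GL D.Idx F)) := by
  simp only [closOk, List.all_eq_true, List.mem_range, Bool.or_eq_true, Bool.not_eq_true'] at h
  set K := rootGen hC.good F {r : Root D | T r = true} with hK
  have key : ∀ t : F, ∀ g ∈ K, (X hC.good a t)⁻¹ * g * X hC.good a t ∈ K := by
    intro t g hg
    have hle : K ≤ K.comap (MulAut.conj (X hC.good a t)⁻¹).toMonoidHom := by
      refine rootGen_le hC.good fun s hs u => ?_
      have h1 := inv_conj_mem hC ((h s s.isLt).resolve_left (by simp [show T s = true from hs]))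
        t u
      rw [Subgroup.mem_comap]
      simp only [MulEquiv.coe_toMonoidHom, MulAut.conj_apply, inv_inv]
      have := mul_mem (X_mem_rootGen hC.good (S := {r | T r = true}) hs u) h1
      rwa [mul_inv_cancel_left] at this
    simpa using hle hg
  refine Subgroup.mem_normalizer_iff.2 fun g => ⟨fun hg => ?_, fun hg => ?_⟩
  · have := key (-t) g hg
    rwa [← X_inv, inv_inv] at this
  · have := key t _ hg
    rwa [show (X hC.good a t)⁻¹ * (X hC.good a t * g * (X hC.good a t)⁻¹) * X hC.good a t = g by
      group] at this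

/-- Adjoining a normalizing root. -/
theorem mem_rootGen_cons [CharP F 2] (hC : GoodComm D) {a : Root D} {T T' : ℕ → Bool}
    (hclos : closOk D a T = true) (hT' : ∀ r : Root D, T' r = true → r = a ∨ T r = true)
    {g : GL D.Idx F} (hg : g ∈ rootGen hC.good F {r | T' r = true}) :
    ∃ t : F, ∃ q ∈ rootGen hC.good F {r : Root D | T r = true}, g = X hC.good a t * q := by
  have hle : rootGen hC.good F {r : Root D | T' r = true} ≤
      D.rootSubgroup F a ⊔ rootGen hC.good F {r : Root D | T r = true} := by
    refine rootGen_le hC.good fun r hr t => ?_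
    rcases hT' r hr with rfl | h
    · exact Subgroup.mem_sup_left (X_mem_rootSubgroup hC.good r t)
    · exact Subgroup.mem_sup_right (X_mem_rootGen hC.good h t)
  have hn : D.rootSubgroup F a ≤
      Subgroup.normalizer (rootGen hC.good F {r | T r = true} : Set (GL D.Idx F)) := by
    intro x hx
    obtain ⟨t, rfl⟩ := (mem_rootSubgroup_iff hC.good).1 hx
    exact X_mem_normalizer hC hclos t
  have := hle hg
  rw [← SetLike.mem_coe, Subgroup.coe_mul_of_left_le_normalizer_right _ _ hn] at this
  obtain ⟨x, hx, q, hq, rfl⟩ := this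
  obtain ⟨t, rfl⟩ := (mem_rootSubgroup_iff hC.good).1 hx
  exact ⟨t, q, hq, rfl⟩

/-! ### Coordinates on an abelian term -/

/-- The element with coordinates `c` in the positive term at `m`. -/
noncomputable def topEl (hD : Good D) (m : ℕ) (c : ℕ → F) : GL D.Idx F :=
  prodFrom hD false c m (D.nroots - m)

/-- All roots from `m` on commute pairwise in characteristic two. -/
def topOk (D : ChevalleyDatum) (m : ℕ) : Bool :=
  decide (half D ≤ m) && decide (m ≤ D.nroots) &&
  (List.range' m (D.nroots - m)).all fun r =>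
    (List.range' m (D.nroots - m)).all fun s => commOk D r s

theorem topOk_commute [CharP F 2] (hC : GoodComm D) {m : ℕ} (h : topOk D m = true) {r s : Root D}
    (hr : m ≤ (r : ℕ)) (hs : m ≤ (s : ℕ)) (t u : F) :
    Commute (X hC.good r t) (X hC.good s u) := by
  simp only [topOk, Bool.and_eq_true, decide_eq_true_eq, List.all_eq_true] at h
  have := r.isLt
  have := s.isLt
  exact commute_of_commOk hC (h.2 r (List.mem_range'_1.2 ⟨hr, by omega⟩) s
    (List.mem_range'_1.2 ⟨hs, by omega⟩)) t u

theorem prodFrom_add [CharP F 2] (hC : GoodComm D) {m : ℕ} (h : topOk D m = true) (c d : ℕ → F) :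
    ∀ k j : ℕ, m ≤ j → j + k ≤ D.nroots → prodFrom hC.good false c j k *
      prodFrom hC.good false d j k = prodFrom hC.good false (c + d) j k := by
  intro k
  induction k with
  | zero => intro j _ _; simp [prodFrom]
  | succ k ih =>
    intro j hj hjk
    have hlt : j < D.nroots := by omega
    rw [prodFrom_succ, prodFrom_succ, prodFrom_succ, ← ih (j + 1) (by omega) (by omega),
      Pi.add_apply, ← X_mul]
    have hcomm : Commute (prodFrom hC.good false c (j + 1) k)
        (X hC.good (rootOf hC.good false j) (d j)) := by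
      refine Commute.list_prod_left _ _ fun g hg => ?_
      obtain ⟨i, hi, rfl⟩ := List.mem_map.1 hg
      rw [List.mem_range'_1] at hi
      rw [rootOf_false _ hlt, rootOf_false _ (show i < D.nroots by omega)]
      exact topOk_commute hC h (r := ⟨i, by omega⟩) (s := ⟨j, hlt⟩) (show m ≤ i by omega)
        (show m ≤ j from hj) _ _
    simp only [mul_assoc]
    rw [← mul_assoc (prodFrom hC.good false c (j + 1) k), hcomm.eq, mul_assoc]

theorem topEl_add [CharP F 2] (hC : GoodComm D) {m : ℕ} (h : topOk D m = true) (c d : ℕ → F) :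
    topEl hC.good m c * topEl hC.good m d = topEl hC.good m (c + d) := by
  have hm : m ≤ D.nroots := by
    simp only [topOk, Bool.and_eq_true, decide_eq_true_eq] at h; exact h.1.2
  exact prodFrom_add hC h c d _ m le_rfl (by omega)

theorem prodFrom_zero (hD : Good D) (m k : ℕ) : prodFrom hD false (0 : ℕ → F) m k = 1 := by
  refine List.prod_eq_one fun g hg => ?_
  obtain ⟨j, -, rfl⟩ := List.mem_map.1 hg
  exact X_zero _ _

theorem topEl_zero (hD : Good D) (m : ℕ) : topEl hD m (0 : ℕ → F) = 1 := prodFrom_zero hD m _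

theorem prodFrom_single (hD : Good D) (r : Root D) (t : F) : ∀ k j : ℕ, j + k ≤ D.nroots →
    prodFrom hD false (Pi.single (r : ℕ) t) j k =
      if j ≤ (r : ℕ) ∧ (r : ℕ) < j + k then X hD r t else 1 := by
  intro k
  induction k with
  | zero => intro j _; rw [if_neg (by omega)]; simp [prodFrom]
  | succ k ih =>
    intro j hjk
    rw [prodFrom_succ, ih (j + 1) (by omega)]
    by_cases hj : j = (r : ℕ)
    · subst hj
      rw [Pi.single_eq_same, if_neg (by omega), if_pos (by omega), mul_one,
        rootOf_false _ r.isLt]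
    · rw [Pi.single_eq_of_ne hj, X_zero, one_mul]
      exact if_congr ⟨fun h => ⟨by omega, by omega⟩, fun h => ⟨by omega, by omega⟩⟩ rfl rfl

theorem topEl_single (hD : Good D) {m : ℕ} {r : Root D} (hr : m ≤ (r : ℕ)) (t : F) :
    topEl hD m (Pi.single (r : ℕ) t) = X hD r t := by
  have := r.isLt
  rw [topEl, prodFrom_single hD r t _ _ (by omega), if_pos (by omega)]

theorem topEl_injective (hU : GoodUni D) {m : ℕ} (hm : half D ≤ m) (hm' : m ≤ D.nroots)
    {c d : ℕ → F} (e : topEl hU.good m c = topEl hU.good m d) {j : ℕ} (hj : m ≤ j)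
    (hj' : j < D.nroots) : c j = d j :=
  prodFrom_injective hU (D.nroots - m) m hm (by omega) c d e j hj (by omega)

/-- The coefficient function of a list. -/
def coefL (L : List (Root D × F)) : ℕ → F := (L.map fun p => Pi.single (p.1 : ℕ) p.2).sum

theorem prodX_eq_topEl [CharP F 2] (hC : GoodComm D) {m : ℕ} (h : topOk D m = true) :
    ∀ L : List (Root D × F), (∀ p ∈ L, p.2 = 0 ∨ m ≤ (p.1 : ℕ)) →
      prodX hC.good L = topEl hC.good m (coefL L)
  | [], _ => by simp [prodX, coefL, topEl_zero]
  | p :: L, hL => by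
    rw [coefL, List.map_cons, List.sum_cons, ← topEl_add hC h, prodX, List.map_cons,
      List.prod_cons]
    refine congrArg₂ _ ?_ (prodX_eq_topEl hC h L fun q hq => hL q (List.mem_cons_of_mem _ hq))
    rcases hL p (List.mem_cons_self ..) with h0 | h0
    · rw [h0, X_zero, Pi.single_zero, topEl_zero]
    · rw [topEl_single _ h0]

theorem coefL_apply : ∀ (L : List (Root D × F)), (L.map Prod.fst).Nodup →
    ∀ p ∈ L, coefL L (p.1 : ℕ) = p.2
  | [], _, p, hp => absurd hp (by simp)
  | q :: L, hnd, p, hp => by
    rw [List.map_cons, List.nodup_cons] at hnd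
    rw [coefL, List.map_cons, List.sum_cons, Pi.add_apply]
    rcases List.mem_cons.1 hp with rfl | hp
    · rw [Pi.single_eq_same, add_eq_left, Pi.list_sum_apply]
      refine List.sum_eq_zero fun x hx => ?_
      simp only [List.map_map, List.mem_map, Function.comp_apply] at hx
      obtain ⟨r, hr, rfl⟩ := hx
      refine Pi.single_eq_of_ne (fun e => hnd.1 ?_) _
      exact List.mem_map.2 ⟨r, hr, (Fin.ext e).symm⟩
    · have hne : (p.1 : ℕ) ≠ (q.1 : ℕ) := fun e =>
        hnd.1 (List.mem_map.2 ⟨p, hp, Fin.ext e⟩)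
      rw [Pi.single_eq_of_ne hne, zero_add]
      exact coefL_apply L hnd.2 p hp

/-- An element permuting root subgroups carries the support of a top element into the support of
its image. -/
theorem image_support [CharP F 2] (hW : GoodWeyl D) {m : ℕ} (h : topOk D m = true)
    {A : GL D.Idx F} {π : Equiv.Perm (Root D)}
    (hA : ∀ r : Root D, ∃ e : Fˣ, ∀ u : F,
      A * X hW.good r u * A⁻¹ = X hW.good (π r) ((e : F) * u))
    {c c' : ℕ → F} (heq : A * topEl hW.good m c * A⁻¹ = topEl hW.good m c') {r : Root D}
    (hr : m ≤ (r : ℕ)) (hc : c r ≠ 0) : m ≤ (π r : ℕ) ∧ c' (π r : ℕ) ≠ 0 := by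
  have hC : GoodComm D := hW.toGoodComm
  obtain ⟨hm, hm'⟩ : half D ≤ m ∧ m ≤ D.nroots := by
    simp only [topOk, Bool.and_eq_true, decide_eq_true_eq] at h; exact h.1
  choose e he using hA
  set L : List (Root D × F) := ((List.finRange D.nroots).filter fun (s : Root D) => decide (m ≤ (s : ℕ))).map
    fun s => (π s, (e s : F) * c s) with hLdef
  have hmemL : ∀ p ∈ L, ∃ s : Root D, m ≤ (s : ℕ) ∧ X hW.good p.1 p.2 =
      A * X hW.good s (c s) * A⁻¹ := by
    intro p hp
    obtain ⟨s, hs, rfl⟩ := List.mem_map.1 hp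
    exact ⟨s, of_decide_eq_true (List.mem_filter.1 hs).2, (he s _).symm⟩
  have hnd : (L.map Prod.fst).Nodup := by
    rw [hLdef, List.map_map]
    exact ((List.nodup_finRange _).filter _).map (f := π) π.injective
  have hcomm : ∀ p ∈ L, ∀ q ∈ L, Commute (X hW.good p.1 p.2) (X hW.good q.1 q.2) := by
    intro p hp q hq
    obtain ⟨s, hs, e1⟩ := hmemL p hp
    obtain ⟨s', hs', e2⟩ := hmemL q hq
    rw [e1, e2]
    exact (topOk_commute hC h hs hs' _ _).map (MulAut.conj A).toMonoidHom
  have hprod : prodX hW.good L = topEl hW.good m c' := by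
    rw [← heq, ← MulAut.conj_apply, topEl, prodFrom, map_list_prod, prodX, hLdef, List.map_map,
      List.map_map]
    congr 1
    have e2 : List.range' m (D.nroots - m) =
        ((List.finRange D.nroots).filter fun (s : Root D) => decide (m ≤ (s : ℕ))).map
          (fun s : Root D => (s : ℕ)) := by
      rw [show (fun s : Fin D.nroots => decide (m ≤ (s : ℕ))) =
        (fun j => decide (m ≤ j)) ∘ Fin.val from rfl, ← List.filter_map,
        List.map_coe_finRange_eq_range]
      obtain ⟨k, hk⟩ : ∃ k, D.nroots = m + k := ⟨D.nroots - m, by omega⟩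
      rw [hk, Nat.add_sub_cancel_left, List.range_add, List.filter_append, List.range'_eq_map_range,
        List.filter_eq_nil_iff.2, List.nil_append, List.filter_eq_self.2]
      · intro a ha
        obtain ⟨j, -, rfl⟩ := List.mem_map.1 ha
        simp
      · intro a ha
        rw [List.mem_range] at ha
        simp; omega
    rw [e2, List.map_map]
    refine List.map_congr_left fun s _ => ?_
    simp only [Function.comp_apply, MulAut.conj_apply]
    rw [rootOf_false _ s.isLt]
    exact (he s _).symm
  have hmemc : topEl hW.good m c' ∈ uGe hW.good F false m := by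
    refine prodFrom_mem _ _ hm (by omega)
  have hp : (π r, (e r : F) * c r) ∈ L :=
    List.mem_map.2 ⟨r, List.mem_filter.2 ⟨List.mem_finRange r, decide_eq_true hr⟩, rfl⟩
  have hpne : (e r : F) * c r ≠ 0 := mul_ne_zero (e r).ne_zero hc
  have hge := le_of_commuting_prodX hW hnd hcomm hm (hprod ▸ hmemc) hp hpne
  refine ⟨hge, ?_⟩
  have hall : ∀ p ∈ L, p.2 = 0 ∨ m ≤ (p.1 : ℕ) := fun p hp' =>
    or_iff_not_imp_left.2 fun h0 => le_of_commuting_prodX hW hnd hcomm hm (hprod ▸ hmemc) hp' h0
  have e3 := topEl_injective hW.toGoodUni hm hm'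
    ((prodX_eq_topEl hC h L hall).symm.trans hprod) hge (π r).isLt
  rw [← e3, coefL_apply L hnd _ hp]
  exact hpne

end CfsgLib.ChevInvol
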